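import Groth.Agent.Lib.DescSS19.FinGeom
import Groth.Agent.Lib.GrothSS.Site
import Mathlib.CategoryTheory.Sites.LocallySurjective
import Mathlib.Algebra.Category.Grp.FilteredColimits

/-! # The resolution of a sheaf by the cochains of a finite surjective map -/

set_option autoImplicit false
set_option linter.unusedVariables false
set_option backward.isDefEq.respectTransparency false
universe u

open CategoryTheory CategoryTheory.Limits TopologicalSpace Opposite

namespace GrothLib.DescSS19

variable {X S : TopCat.{u}} (f : X ⟶ S) (F : CohTop.Ab S)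

/-- The presheaf of cochains. -/
noncomputable def cochPsh (n : ℕ) : (Opens S)ᵒᵖ ⥤ AddCommGrpCat.{u} where
  obj V := AddCommGrpCat.of (Coch f F n V.unop)
  map h := AddCommGrpCat.ofHom (cochRes f F n h.unop.le)
  map_id V := rfl
  map_comp h h' := rfl

/-- Cochains are the sections of the direct image of the inverse image. -/
noncomputable def cochPshIso (n : ℕ) :
    ((CohTop.push (nvBase f n)).obj ((CohTop.pull (nvBase f n)).obj F)).obj ≅ cochPsh f F n :=
  NatIso.ofComponents (fun V => (secEquiv (nvBase f n) F (nvOver f n V.unop)).toAddCommGrpIso)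
    (fun {V V'} h => ConcreteCategory.hom_ext _ _ fun σ => Subtype.ext (funext fun w =>
      famSec_res (nvBase f n) F (fun x hx => h.unop.le hx) σ w))

/-- The sheaf of cochains. -/
noncomputable def cochSh (n : ℕ) : CohTop.Ab S :=
  ⟨cochPsh f F n, (Presheaf.isSheaf_of_iso_iff (cochPshIso f F n)).1
    ((CohTop.push (nvBase f n)).obj ((CohTop.pull (nvBase f n)).obj F)).property⟩

/-- It is the direct image of the inverse image. -/
noncomputable def cochShIso (n : ℕ) :
    cochSh f F n ≅ (CohTop.push (nvBase f n)).obj ((CohTop.pull (nvBase f n)).obj F) :=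
  (fullyFaithfulSheafToPresheaf _ _).preimageIso (cochPshIso f F n).symm

/-- The differential. -/
noncomputable def cochD (n : ℕ) : cochSh f F n ⟶ cochSh f F (n + 1) :=
  Sheaf.Hom.mk
    { app := fun V => (cx f F V.unop).d n (n + 1)
      naturality := fun V V' h => ConcreteCategory.hom_ext _ _ fun φ => cx_ext f F fun w =>
        (val_d f F (cochRes f F n h.unop.le φ) w).trans (val_d f F φ ⟨w.1, h.unop.le w.2⟩).symm }

/-- The complex of sheaves of cochains. -/
noncomputable def shCx : CochainComplex (CohTop.Ab S) ℕ :=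
  CochainComplex.of (cochSh f F) (cochD f F) fun n => Sheaf.hom_ext (NatTrans.ext (funext fun V =>
    (cx f F V.unop).d_comp_d n (n + 1) (n + 2)))

lemma shCx_d_app (n : ℕ) (V : Opens S) (φ : Coch f F n V) :
    ((shCx f F).d n (n + 1)).hom.app (op V) φ = (cx f F V).d n (n + 1) φ := by
  have e : (shCx f F).d n (n + 1) = cochD f F n := CochainComplex.of_d (cochSh f F) (cochD f F) n
  rw [e]
  rfl

/-- The augmentation. -/
noncomputable def shAug : F ⟶ (shCx f F).X 0 :=
  Sheaf.Hom.mk
    { app := fun V => AddCommGrpCat.ofHom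
        { toFun := fun s => (⟨fun w => TopCat.Presheaf.germ F.obj V.unop (nvBase f 0 w.1) w.2 s,
            fun w => ⟨V.unop, s, nvOver f 0 V.unop, w.2, le_rfl, fun _ _ => rfl⟩⟩ : Coch f F 0 V.unop)
          map_zero' := Subtype.ext (funext fun w => map_zero _)
          map_add' := fun a b => Subtype.ext (funext fun w => map_add _ _ _) }
      naturality := fun V V' h => ConcreteCategory.hom_ext _ _ fun s => Subtype.ext (funext fun w =>
        TopCat.Presheaf.germ_res_apply F.obj h.unop _ w.2 s) }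

lemma shAug_d : shAug f F ≫ (shCx f F).d 0 1 = 0 := by
  refine Sheaf.hom_ext (NatTrans.ext (funext fun V => ConcreteCategory.hom_ext _ _ fun s => ?_))
  refine (shCx_d_app f F 0 V.unop _).trans (cx_ext f F fun w => ?_)
  rw [val_d, Fin.sum_univ_two]
  simp only [Fin.val_zero, pow_zero, Fin.val_one, pow_one, one_smul, neg_smul]
  exact add_neg_cancel (TopCat.Presheaf.germ F.obj V.unop (nvBase f 1 w.1) w.2 s)

/-- Into the cycles. -/
noncomputable def shAugCyc : F ⟶ (shCx f F).cycles 0 :=
  (shCx f F).liftCycles (shAug f F) 1 (by simp) (shAug_d f F)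

variable {f F}

lemma iCycles_app_injective (n : ℕ) (V : Opens S) :
    Function.Injective (((shCx f F).iCycles n).hom.app (op V)) :=
  (AddCommGrpCat.mono_iff_injective _).1
    ((GrothSS.secAt (Opens.grothendieckTopology S) V).map_mono ((shCx f F).iCycles n))

lemma exists_section_of_local {V : Opens S} (ψ : ∀ v : V, CohTop.stalk F v.1)
    (h : ∀ v : V, ∃ (U : Opens S) (_ : v.1 ∈ U) (hUV : U ≤ V) (s : F.obj.obj (op U)),
      ∀ x (hx : x ∈ U), ψ ⟨x, hUV hx⟩ = TopCat.Presheaf.germ F.obj U x hx s) :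
    ∃ s : F.obj.obj (op V), ∀ v : V, TopCat.Presheaf.germ F.obj V v.1 v.2 s = ψ v := by
  choose U hU hUV s hs using h
  obtain ⟨σ, hσ, -⟩ := TopCat.Sheaf.existsUnique_gluing' F U V (fun v => homOfLE (hUV v))
    (fun x hx => Opens.mem_iSup.2 ⟨⟨x, hx⟩, hU ⟨x, hx⟩⟩) s
    (fun a b => TopCat.Presheaf.section_ext F _ _ _ fun x hx =>
      (TopCat.Presheaf.germ_res_apply F.obj _ x hx (s a)).trans
        ((hs a x hx.1).symm.trans ((hs b x hx.2).trans
          (TopCat.Presheaf.germ_res_apply F.obj _ x hx (s b)).symm)))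
  refine ⟨σ, fun v => (Eq.trans ?_ (hs v v.1 (hU v)).symm)⟩
  rw [← hσ v, TopCat.Presheaf.germ_res_apply]

theorem bijective_shAugCyc_app (hf : IsProperMap f) (hsurj : Function.Surjective f) (V : Opens S) :
    Function.Bijective ((shAugCyc f F).hom.app (op V)) := by
  have hl : ∀ s, ((shCx f F).iCycles 0).hom.app (op V) ((shAugCyc f F).hom.app (op V) s) =
      (shAug f F).hom.app (op V) s := fun s =>
    ConcreteCategory.congr_hom (congrArg (fun t => t.hom.app (op V))
      ((shCx f F).liftCycles_i (shAug f F) 1 (by simp) (shAug_d f F))) s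
  choose c hc using hsurj
  refine ⟨fun a b hab => TopCat.Presheaf.section_ext F V a b fun v hv => ?_, fun z => ?_⟩
  · have h := congrArg (fun φ : Coch f F 0 V => φ.1 ⟨pt v (fun _ => c v) (fun _ => hc v), hv⟩)
      ((hl a).symm.trans ((congrArg _ hab).trans (hl b)))
    exact h
  · let φ : Coch f F 0 V := ((shCx f F).iCycles 0).hom.app (op V) z
    have hd : (cx f F V).d 0 1 φ = 0 := (shCx_d_app f F 0 V φ).symm.trans
      (ConcreteCategory.congr_hom (congrArg (fun t => t.hom.app (op V)) ((shCx f F).iCycles_d 0 1)) z)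
    have hconst : ∀ (v : S) (hv : v ∈ V) (x : Fin 1 → X) (hx : ∀ i, f (x i) = v),
        φ.1 ⟨pt v (fun _ => c v) (fun _ => hc v), hv⟩ = φ.1 ⟨pt v x hx, hv⟩ := fun v hv x hx => by
      have h := val_d f F φ ⟨pt v (Fin.cons (x 0) fun _ => c v)
        (fun i => Fin.cases (hx 0) (fun _ => hc v) i), hv⟩
      rw [hd, Fin.sum_univ_two] at h
      simp only [Fin.val_zero, pow_zero, Fin.val_one, pow_one, one_smul, neg_smul] at h
      have h' := add_neg_eq_zero.1 (Eq.trans h.symm rfl)
      have e : ∀ (y : Fin 1 → X) (hy : ∀ i, f (y i) = v), y = x →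
          φ.1 ⟨pt v y hy, hv⟩ = φ.1 ⟨pt v x hx, hv⟩ := by
        intro y hy e
        subst e
        rfl
      refine Eq.trans h' (e _ _ (funext fun j => ?_))
      obtain rfl : j = 0 := Fin.fin_one_eq_zero j
      rfl
    obtain ⟨s, hs⟩ := exists_section_of_local (F := F)
      (fun v : V => (φ.1 ⟨pt v.1 (fun _ => c v.1) (fun _ => hc v.1), v.2⟩ : CohTop.stalk F v.1)) (fun v => by
        obtain ⟨U, hU, σ, hσ⟩ := TopCat.Presheaf.exists_germ_eq F.obj
          (φ.1 ⟨pt v.1 (fun _ => c v.1) (fun _ => hc v.1), v.2⟩ : CohTop.stalk F v.1)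
        obtain ⟨V', hV', hvV', he⟩ := eq_near hf (V := U ⊓ V) (s := v.1) ⟨hU, v.2⟩
          (cochRes f F 0 inf_le_right φ)
          (cochRes f F 0 inf_le_left ((shAug f F).hom.app (op U) σ))
          (fun x hx => (hconst v.1 v.2 x hx).symm.trans hσ.symm)
        refine ⟨V', hvV', hV'.trans inf_le_right, F.obj.map (homOfLE (hV'.trans inf_le_left)).op σ,
          fun x hx => ?_⟩
        rw [TopCat.Presheaf.germ_res_apply]
        exact congrFun (congrArg Subtype.val he) ⟨pt x (fun _ => c x) (fun _ => hc x), hx⟩)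
    refine ⟨s, iCycles_app_injective 0 V ((hl s).trans (Subtype.ext (funext fun w => ?_)))⟩
    obtain ⟨⟨⟨v, x⟩, hx⟩, hv⟩ := w
    exact (hs ⟨v, hv⟩).trans (hconst v hv x hx)

theorem isIso_shAugCyc (hf : IsProperMap f) (hsurj : Function.Surjective f) :
    IsIso (shAugCyc f F) := by
  have : IsIso ((sheafToPresheaf _ AddCommGrpCat.{u}).map (shAugCyc f F)) := by
    rw [NatTrans.isIso_iff_isIso_app]
    intro V
    exact (ConcreteCategory.isIso_iff_bijective _).2 (bijective_shAugCyc_app hf hsurj V.unop)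
  exact isIso_of_reflects_iso (shAugCyc f F) (sheafToPresheaf _ AddCommGrpCat.{u})

/-- The sheaf is the cohomology in degree zero. -/
noncomputable def shAugIso (hf : IsProperMap f) (hsurj : Function.Surjective f) :
    F ≅ (shCx f F).homology 0 :=
  haveI := isIso_shAugCyc (F := F) hf hsurj
  asIso (shAugCyc f F) ≪≫ CochainComplex.isoHomologyπ₀ (shCx f F)

theorem exists_primitive (hf : IsFiniteMap f) (hsurj : Function.Surjective f) {n : ℕ} {V : Opens S}
    (φ : Coch f F (n + 1) V) (hd : (cx f F V).d (n + 1) (n + 2) φ = 0) (s : S) (hs : s ∈ V) :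
    ∃ (V' : Opens S) (hV : V' ≤ V), s ∈ V' ∧
      ∃ ψ : Coch f F n V', (cx f F V').d n (n + 1) ψ = cochRes f F (n + 1) hV φ := by
  obtain ⟨c, hc⟩ := hsurj s
  let cons : ∀ {m : ℕ} (x : Fin (m + 1) → X), (∀ i, f (x i) = s) → Nv f (m + 1) := fun x h =>
    pt s (Fin.cons c x) (fun i => Fin.cases hc h i)
  obtain ⟨V₁, hs₁, ψ, hψ⟩ := exists_extend (F := F) hf (n := n) s fun x hx => φ.1 ⟨cons x hx, hs⟩
  let ψ' : Coch f F n (V₁ ⊓ V) := cochRes f F n inf_le_left ψ
  have hval : ∀ (x : Fin (n + 2) → X) (hx : ∀ i, f (x i) = s),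
      (show Coch f F (n + 1) (V₁ ⊓ V) from (cx f F (V₁ ⊓ V)).d n (n + 1) ψ').1 ⟨pt s x hx, hs₁, hs⟩ =
        φ.1 ⟨pt s x hx, hs⟩ := by
    intro x hx
    have h := val_d f F φ ⟨cons x hx, hs⟩
    rw [hd, Fin.sum_univ_succ] at h
    simp only [Fin.val_zero, pow_zero, one_smul, Fin.val_succ, pow_succ, mul_neg, mul_one, neg_smul,
      Finset.sum_neg_distrib] at h
    have h' := add_neg_eq_zero.1 (Eq.trans h.symm rfl)
    refine (val_d f F ψ' ⟨pt s x hx, hs₁, hs⟩).trans ?_
    have e : ∀ (y y' : Fin (n + 2) → X) (hy : ∀ i, f (y i) = s) (hy' : ∀ i, f (y' i) = s), y = y' →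
        φ.1 ⟨pt s y hy, hs⟩ = φ.1 ⟨pt s y' hy', hs⟩ := by
      intro y y' hy hy' e
      subst e
      rfl
    refine Eq.trans ?_ (Eq.trans h'.symm (e _ x _ hx (funext fun j => ?_)))
    · refine Finset.sum_congr rfl fun i _ => congrArg (fun t : CohTop.stalk F s => (-1 : ℤ) ^ (i : ℕ) • t) ?_
      refine (hψ _ (fun j => hx (i.succAbove j))).trans (e _ _ _ _ (funext fun j => ?_))
      cases j using Fin.cases with
      | zero =>
        change c = (Fin.cons c x : Fin (n + 3) → X) (i.succ.succAbove 0)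
        rw [Fin.succ_succAbove_zero, Fin.cons_zero]
      | succ j =>
        change x (i.succAbove j) = (Fin.cons c x : Fin (n + 3) → X) (i.succ.succAbove j.succ)
        rw [Fin.succ_succAbove_succ, Fin.cons_succ]
    · change (Fin.cons c x : Fin (n + 3) → X) (Fin.succAbove 0 j) = x j
      rw [Fin.succAbove_zero, Fin.cons_succ]
  obtain ⟨V', hV', hsV', he⟩ := eq_near hf.proper (V := V₁ ⊓ V) (s := s) ⟨hs₁, hs⟩
    ((cx f F (V₁ ⊓ V)).d n (n + 1) ψ') (cochRes f F (n + 1) inf_le_right φ) hval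
  refine ⟨V', hV'.trans inf_le_right, hsV', cochRes f F n hV' ψ', ?_⟩
  refine (cx_ext f F fun w => ?_).trans he
  exact (val_d f F (cochRes f F n hV' ψ') w).trans (val_d f F ψ' ⟨w.1, hV' w.2⟩).symm

theorem exactAt_shCx (hf : IsFiniteMap f) (hsurj : Function.Surjective f) (n : ℕ) :
    (shCx f F).ExactAt (n + 1) := by
  have : Sheaf.IsLocallySurjective ((shCx f F).toCycles n (n + 1)) := ⟨fun {V} z => ?_⟩
  · have hπ : (shCx f F).homologyπ (n + 1) = 0 := by
      rw [← cancel_epi ((shCx f F).toCycles n (n + 1)), comp_zero,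
        HomologicalComplex.toCycles_comp_homologyπ]
    rw [HomologicalComplex.exactAt_iff_isZero_homology]
    exact IsZero.of_epi_eq_zero _ hπ
  · intro s hs
    let φ : Coch f F (n + 1) V := ((shCx f F).iCycles (n + 1)).hom.app (op V) z
    have hd : (cx f F V).d (n + 1) (n + 2) φ = 0 := (shCx_d_app f F (n + 1) V φ).symm.trans
      (ConcreteCategory.congr_hom (congrArg (fun t => t.hom.app (op V))
        ((shCx f F).iCycles_d (n + 1) (n + 2))) z)
    obtain ⟨V', hV', hsV', ψ, hψ⟩ := exists_primitive hf hsurj φ hd s hs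
    refine ⟨V', homOfLE hV', ⟨ψ, iCycles_app_injective (n + 1) V' ?_⟩, hsV'⟩
    refine (ConcreteCategory.congr_hom (congrArg (fun t : (shCx f F).X n ⟶ (shCx f F).X (n + 1) => t.hom.app (op V'))
      ((shCx f F).toCycles_i n (n + 1))) ψ).trans ?_
    refine ((shCx_d_app f F n V' ψ).trans hψ).trans ?_
    exact (NatTrans.naturality_apply ((shCx f F).iCycles (n + 1)).hom (homOfLE hV').op z).symm

end GrothLib.DescSS19
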