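import Groth.Agent.Lib.DescSS19.LocHomeoSS
import Groth.Agent.Lib.DescSS19.FinRes
import Groth.Agent.Lib.PullH25.Functor
import Mathlib.Algebra.Category.Grp.Limits
import Mathlib.Algebra.Homology.ShortComplex.ExactFunctor

/-! # Cohomology of an open piece, and of a disjoint union of open pieces -/

set_option autoImplicit false
set_option linter.unusedVariables false
set_option backward.isDefEq.respectTransparency false
universe u

open CategoryTheory CategoryTheory.Limits TopologicalSpace Opposite

namespace GrothLib.DescSS19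

open GrothLib

variable {Z T : TopCat.{u}} (j : Z ⟶ T) (hj : Topology.IsOpenEmbedding j)

/-- The image of an open embedding. -/
def rangeOpen : Opens T := ⟨Set.range j, hj.isOpen_range⟩

variable (G : CohTop.Ab T)

/-- The germs along `j` of a section over the image. -/
noncomputable def rangeGerm : G.obj.obj (op (rangeOpen j hj)) →+ Sec j G ⊤ where
  toFun s := ⟨fun w => TopCat.Presheaf.germ G.obj (rangeOpen j hj) (j w.1) ⟨w.1, rfl⟩ s,
    fun w => ⟨rangeOpen j hj, s, ⊤, trivial, fun x _ => ⟨x, rfl⟩, fun _ _ => rfl⟩⟩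
  map_zero' := Subtype.ext (funext fun w => map_zero _)
  map_add' a b := Subtype.ext (funext fun w => map_add _ _ _)

theorem bijective_rangeGerm : Function.Bijective (rangeGerm j hj G) := by
  refine ⟨fun a b h => TopCat.Presheaf.section_ext G _ a b fun v hv => ?_, fun φ => ?_⟩
  · obtain ⟨x, rfl⟩ := hv
    exact congrFun (congrArg Subtype.val h) ⟨x, trivial⟩
  · have hx : ∀ v : rangeOpen j hj, ∃ a : CohTop.stalk G v.1,
        ∀ x : Z, j x = v.1 → HEq a (φ.1 ⟨x, trivial⟩) := fun v => by
      obtain ⟨v, hv⟩ := v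
      obtain ⟨x, rfl⟩ := hv
      refine ⟨φ.1 ⟨x, trivial⟩, fun y hy => ?_⟩
      obtain rfl : y = x := hj.injective hy
      rfl
    choose a ha using hx
    obtain ⟨s, hs⟩ := exists_section_of_local (F := G) a fun v => by
      obtain ⟨v, hv⟩ := v
      obtain ⟨x, rfl⟩ := hv
      obtain ⟨U, σ, W', hw, hU, hσ⟩ := φ.2 ⟨x, trivial⟩
      refine ⟨U ⊓ ⟨j '' W', hj.isOpenMap _ W'.2⟩, ⟨hU hw, x, hw, rfl⟩, ?_,
        G.obj.map (homOfLE inf_le_left).op σ, fun y hy => ?_⟩
      · rintro y ⟨-, z, -, rfl⟩
        exact ⟨z, rfl⟩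
      · obtain ⟨z, hz, rfl⟩ := hy.2
        rw [TopCat.Presheaf.germ_res_apply]
        exact (eq_of_heq (ha _ z rfl)).trans (hσ ⟨z, trivial⟩ hz)
    refine ⟨s, Subtype.ext (funext fun w => ?_)⟩
    exact (hs ⟨j w.1, w.1, rfl⟩).trans (eq_of_heq (ha _ w.1 rfl))

/-- Sections over the image are sections of the inverse image. -/
noncomputable def rangeSecIso : CohTop.pull j ⋙ secTop Z ≅
    GrothSS.secAt (Opens.grothendieckTopology T) (rangeOpen j hj) :=
  NatIso.ofComponents (fun G => ((secEquiv j G ⊤).trans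
      (AddEquiv.ofBijective (rangeGerm j hj G) (bijective_rangeGerm j hj G)).symm).toAddCommGrpIso)
    (fun {G G'} g => ConcreteCategory.hom_ext _ _ fun σ => by
      apply (bijective_rangeGerm j hj G').1
      refine (AddEquiv.apply_symm_apply (AddEquiv.ofBijective _ (bijective_rangeGerm j hj G')) _).trans ?_
      refine Subtype.ext (funext fun w => (famSec_map j G g ⊤ σ w).trans ?_)
      refine Eq.trans ?_ (stalkMap_germ g (U := rangeOpen j hj) (j w.1) ⟨w.1, rfl⟩ _)
      exact congrArg (stalkMap g _) (congrFun (congrArg Subtype.val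
        ((AddEquiv.ofBijective _ (bijective_rangeGerm j hj G)).apply_symm_apply (secEquiv j G ⊤ σ))) w).symm)

include hj in
/-- Cohomology of an open piece is that of the inverse image. -/
theorem nonempty_HU_range (q : ℕ) :
    Nonempty (AddCommGrpCat.of (CohTop.HU G q (rangeOpen j hj)) ≅
      AddCommGrpCat.of (CohTop.H ((CohTop.pull j).obj G) q)) := by
  have : PreservesFiniteLimits (CohTop.pull j) := SheafCoh.preservesFiniteLimits_pull j
  have hadj := TopCat.Sheaf.pullbackPushforwardAdjunction AddCommGrpCat.{u} j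
  have : PreservesFiniteColimits (CohTop.pull j) :=
    have : PreservesColimitsOfSize.{0, 0} (CohTop.pull j) :=
      hadj.leftAdjoint_preservesColimits (F := CohTop.pull j) (G := CohTop.push j)
    PreservesColimitsOfSize.preservesFiniteColimits _
  have : (CohTop.pull j).Additive := Functor.additive_of_preserves_binary_products _
  obtain ⟨i⟩ := RDerLES.nonempty_rightDerived_comp_iso (CohTop.pull j) (secTop Z) (fun J hJ k => by
    have := isFlasque_pull J j hj.isOpenMap (fun w => ⟨⊤, trivial, hj.injective.injOn⟩)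
    refine IsZero.of_iso ?_ (GrothSS.rightDerivedSecAtIso (Opens.grothendieckTopology Z) ⊤ _ (k + 1))
    have := SheafCoh.flasque_HU_subsingleton ((CohTop.pull j).obj J) k ⊤
    exact AddCommGrpCat.isZero_of_subsingleton _) q G
  exact ⟨(GrothSS.rightDerivedSecAtIso (Opens.grothendieckTopology T) (rangeOpen j hj) G q).symm ≪≫
    (SheafCoh.rightDerivedCongr (rangeSecIso j hj).symm q).app G ≪≫ i ≪≫
    GrothSS.rightDerivedSecAtIso (Opens.grothendieckTopology Z) ⊤ _ q ≪≫
    (SheafCoh.HEquivHU ((CohTop.pull j).obj G) q (isTerminalTop (α := Opens Z))).symm.toAddCommGrpIso⟩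

section Prod

variable {T : TopCat.{u}} {ι : Type u} (W : ι → Opens T)

/-- The product of the values on the pieces. -/
noncomputable def prodEval : ((Opens T)ᵒᵖ ⥤ AddCommGrpCat.{u}) ⥤ AddCommGrpCat.{u} where
  obj P := AddCommGrpCat.of (∀ i, P.obj (op (W i)))
  map g := AddCommGrpCat.ofHom (AddMonoidHom.mk' (fun x i => g.app (op (W i)) (x i))
    fun a b => funext fun i => map_add (g.app (op (W i))).hom (a i) (b i))
  map_id P := ConcreteCategory.hom_ext _ _ fun x => rfl
  map_comp g g' := ConcreteCategory.hom_ext _ _ fun x => rfl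

instance : (prodEval W).Additive where
  map_add {P Q g g'} := ConcreteCategory.hom_ext _ _ fun x => rfl

theorem prodEval_preservesHomology : (prodEval W).PreservesHomology :=
  (((prodEval W).exact_tfae).out 0 2).1 fun S hS => by
    have hW : ∀ i, (S.map ((evaluation _ _).obj (op (W i)))).ShortExact := fun i => hS.map_of_exact _
    refine { exact := ?_, mono_f := ?_, epi_g := ?_ }
    · rw [ShortComplex.ab_exact_iff]
      intro (x : ∀ i, S.X₂.obj (op (W i))) hx
      have : ∀ i, ∃ r, S.f.app (op (W i)) r = x i := fun i =>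
        (ShortComplex.ab_exact_iff _).1 (hW i).exact _ (congrFun hx i)
      choose r hr using this
      exact ⟨r, funext hr⟩
    · rw [AddCommGrpCat.mono_iff_injective]
      intro (x : ∀ i, S.X₁.obj (op (W i))) (y : ∀ i, S.X₁.obj (op (W i))) hxy
      exact funext fun i => (AddCommGrpCat.mono_iff_injective _).1 (hW i).mono_f (congrFun hxy i)
    · rw [AddCommGrpCat.epi_iff_surjective]
      intro (x : ∀ i, S.X₃.obj (op (W i)))
      have : ∀ i, ∃ r, S.g.app (op (W i)) r = x i :=
        fun i => (AddCommGrpCat.epi_iff_surjective _).1 (hW i).epi_g _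
      choose r hr using this
      exact ⟨r, funext hr⟩

/-- Restriction to the pieces. -/
noncomputable def resPieces :
    secTop T ⟶ sheafToPresheaf (Opens.grothendieckTopology T) AddCommGrpCat.{u} ⋙ prodEval W where
  app G := AddCommGrpCat.ofHom (AddMonoidHom.mk' (fun s i => G.obj.map (homOfLE le_top).op s)
    fun a b => funext fun i => map_add (G.obj.map (homOfLE le_top).op).hom a b)
  naturality {G G'} g := ConcreteCategory.hom_ext _ _ fun s => funext fun i =>
    (NatTrans.naturality_apply g.hom (homOfLE (le_top : W i ≤ ⊤)).op s).symm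

variable (hcov : ∀ w : T, ∃ i, w ∈ W i) (hd : ∀ i k (w : T), w ∈ W i → w ∈ W k → i = k)

include hcov hd in
theorem bijective_resPieces (G : CohTop.Ab T) : Function.Bijective ((resPieces W).app G) := by
  refine ⟨fun a b h => TopCat.Presheaf.section_ext G ⊤ a b fun v _ => ?_, fun (x : ∀ i, G.obj.obj (op (W i))) => ?_⟩
  · obtain ⟨i, hi⟩ := hcov v
    rw [← TopCat.Presheaf.germ_res_apply G.obj (homOfLE (le_top : W i ≤ ⊤)) v hi a,
      ← TopCat.Presheaf.germ_res_apply G.obj (homOfLE (le_top : W i ≤ ⊤)) v hi b]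
    exact congrArg _ (congrFun h i)
  · obtain ⟨σ, hσ, -⟩ := TopCat.Sheaf.existsUnique_gluing' G W ⊤ (fun i => homOfLE le_top)
      (fun w _ => Opens.mem_iSup.2 (hcov w)) x
      (fun a b => TopCat.Presheaf.section_ext G _ _ _ fun w hw => by
        obtain rfl := hd a b w hw.1 hw.2
        rfl)
    exact ⟨σ, funext hσ⟩

include hcov hd in
theorem nonempty_H_pieces (G : CohTop.Ab T) (q : ℕ) :
    Nonempty (AddCommGrpCat.of (CohTop.H G q) ≅ AddCommGrpCat.of (∀ i, CohTop.HU G q (W i))) := by
  have := prodEval_preservesHomology W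
  have : IsIso (resPieces W) := (NatTrans.isIso_iff_isIso_app _).2 fun G =>
    (ConcreteCategory.isIso_iff_bijective _).2 (bijective_resPieces W hcov hd G)
  exact ⟨(SheafCoh.HEquivHU G q (isTerminalTop (α := Opens T))).toAddCommGrpIso ≪≫
    (GrothSS.rightDerivedSecAtIso (Opens.grothendieckTopology T) ⊤ G q).symm ≪≫
    SheafCoh.rightDerivedCompIso (secTop T) (prodEval W) (asIso (resPieces W)) G q⟩

end Prod

end GrothLib.DescSS19
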