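import Groth.Agent.Lib.DescSS19.FinSS
import Groth.Agent.Lib.DescSS19.ClopenH

/-! # The descent spectral sequence of a locally finite closed cover -/

set_option autoImplicit false
set_option linter.unusedVariables false
set_option backward.isDefEq.respectTransparency false
universe u

open CategoryTheory CategoryTheory.Limits TopologicalSpace Opposite

namespace GrothLib.DescSS19

open GrothLib

variable {X : TopCat.{u}} {I : Type u} (U : I → Set X)

/-- The disjoint union of the members of a cover. -/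
abbrev coverSpace : TopCat.{u} := TopCat.of (Σ i, U i)

/-- Its projection. -/
def coverMap : coverSpace U ⟶ X :=
  TopCat.ofHom ⟨fun a => a.2.1, continuous_sigma fun i => continuous_subtype_val⟩

variable {U}

theorem isFiniteMap_coverMap (hU : ∀ i, IsClosed (U i)) (hlf : LocallyFinite U) :
    IsFiniteMap (coverMap U) := by
  have hfin : ∀ s : X, (coverMap U ⁻¹' {s}).Finite := fun s => by
    refine Set.Finite.of_finite_image (f := fun a : coverSpace U => a.1)
      ((hlf.point_finite s).subset ?_) ?_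
    · rintro i ⟨a, ha, rfl⟩
      have ha' : a.2.1 = s := ha
      exact ha' ▸ a.2.2
    · rintro ⟨i, x⟩ hx ⟨k, y⟩ hy (rfl : i = k)
      exact congrArg (Sigma.mk i) (Subtype.ext ((show x.1 = s from hx).trans (show y.1 = s from hy).symm))
  refine ⟨?_, hfin, fun a b h hne => ?_⟩
  · refine isProperMap_iff_isClosedMap_and_compact_fibers.2
      ⟨(coverMap U).hom.continuous, fun C hC => ?_, fun s => (hfin s).isCompact⟩
    have : coverMap U '' C = ⋃ i, Subtype.val '' ((fun x : U i => (⟨i, x⟩ : coverSpace U)) ⁻¹' C) := by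
      ext s
      simp only [Set.mem_iUnion, Set.mem_image]
      constructor
      · rintro ⟨⟨i, x⟩, hx, rfl⟩
        exact ⟨i, x, hx, rfl⟩
      · rintro ⟨i, x, hx, rfl⟩
        exact ⟨⟨i, x⟩, hx, rfl⟩
    rw [this]
    refine LocallyFinite.isClosed_iUnion (hlf.subset fun i => ?_) fun i => ?_
    · rintro _ ⟨x, -, rfl⟩
      exact x.2
    · exact (hU i).isClosedEmbedding_subtypeVal.isClosedMap _ (hC.preimage continuous_sigmaMk)
  · by_cases hi : a.1 = b.1
    · obtain ⟨i, x⟩ := a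
      obtain ⟨k, y⟩ := b
      obtain rfl : i = k := hi
      exact absurd (congrArg (Sigma.mk i) (Subtype.ext h)) hne
    · refine ⟨Set.range (Sigma.mk (β := fun i => U i) a.1), Set.range (Sigma.mk (β := fun i => U i) b.1),
        isOpen_range_sigmaMk, isOpen_range_sigmaMk, ⟨a.2, rfl⟩, ⟨b.2, rfl⟩, ?_⟩
      rw [Set.disjoint_left]
      rintro _ ⟨x, rfl⟩ ⟨y, hy⟩
      exact hi (congrArg Sigma.fst hy).symm

theorem surjective_coverMap (hcov : ⋃ i, U i = Set.univ) : Function.Surjective (coverMap U) := fun x => by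
  obtain ⟨i, hi⟩ := Set.mem_iUnion.1 (hcov.ge (Set.mem_univ x))
  exact ⟨⟨i, x, hi⟩, rfl⟩

variable (U) {n : ℕ} (σ : Fin (n + 1) → I)

/-- The inclusion of a piece into the fibre product. -/
def pieceMap : TopCat.of (⋂ k, U (σ k) : Set X) ⟶ nvTop (coverMap U) n :=
  TopCat.ofHom ⟨fun x => ⟨(x.1, fun k => ⟨σ k, x.1, Set.mem_iInter.1 x.2 k⟩), fun k => rfl⟩, by
    refine Continuous.subtype_mk (continuous_subtype_val.prodMk (continuous_pi fun k => ?_)) _
    exact continuous_sigmaMk.comp (continuous_subtype_val.subtype_mk _)⟩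

lemma range_pieceMap :
    Set.range (pieceMap U σ) = ⋂ k, (fun w : Nv (coverMap U) n => w.1.2 k) ⁻¹'
      Set.range (Sigma.mk (β := fun i => U i) (σ k)) := by
  refine Set.Subset.antisymm ?_ fun w hw => ?_
  · rintro _ ⟨x, rfl⟩
    exact Set.mem_iInter.2 fun k => ⟨⟨x.1, Set.mem_iInter.1 x.2 k⟩, rfl⟩
  · choose y hy using fun k => Set.mem_iInter.1 hw k
    have hv : ∀ k, (y k).1 = w.1.1 := fun k =>
      (congrArg (fun a : coverSpace U => a.2.1) (hy k)).trans (w.2 k)
    refine ⟨⟨w.1.1, Set.mem_iInter.2 fun k => hv k ▸ (y k).2⟩, Subtype.ext (Prod.ext rfl (funext fun k => ?_))⟩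
    refine Eq.trans ?_ (hy k)
    exact congrArg (Sigma.mk (σ k)) (Subtype.ext (hv k).symm)

theorem isOpenEmbedding_pieceMap : Topology.IsOpenEmbedding (pieceMap U σ) := by
  refine ⟨Topology.IsEmbedding.of_comp (g := nvBase (coverMap U) n) (pieceMap U σ).hom.continuous
    (nvBase (coverMap U) n).hom.continuous Topology.IsEmbedding.subtypeVal, ?_⟩
  rw [range_pieceMap]
  exact isOpen_iInter_of_finite fun k => isOpen_range_sigmaMk.preimage (continuous_nvCoord _ n k)

variable (F : CohTop.Ab X)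

set_option maxHeartbeats 400000 in
theorem nonempty_E₁_iso (p q : ℕ) :
    Nonempty (AddCommGrpCat.of (∀ σ : Fin (p + 1) → I,
        CohTop.H ((CohTop.pull (TopCat.ofHom ⟨((↑) : (⋂ k, U (σ k) : Set X) → X), continuous_subtype_val⟩ :
          TopCat.of (⋂ k, U (σ k) : Set X) ⟶ X)).obj F) q) ≅
      AddCommGrpCat.of (CohTop.H ((CohTop.pull (nvBase (coverMap U) p)).obj F) q)) := by
  let G := (CohTop.pull (nvBase (coverMap U) p)).obj F
  let W : (Fin (p + 1) → I) → Opens (nvTop (coverMap U) p) := fun σ =>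
    rangeOpen (pieceMap U σ) (isOpenEmbedding_pieceMap U σ)
  obtain ⟨e⟩ := nonempty_H_pieces W
    (fun w => ⟨fun k => (w.1.2 k).1, (range_pieceMap U _).ge (Set.mem_iInter.2 fun k => ⟨(w.1.2 k).2, rfl⟩)⟩)
    (fun σ τ w h h' => by
      obtain ⟨x, rfl⟩ := h
      obtain ⟨y, hy⟩ := h'
      funext k
      exact (congrArg (fun w : Nv (coverMap U) p => (w.1.2 k).1) hy).symm) G q
  have e' : ∀ σ : Fin (p + 1) → I, Nonempty
      (CohTop.H ((CohTop.pull (pieceMap U σ ≫ nvBase (coverMap U) p)).obj F) q ≃+ CohTop.HU G q (W σ)) := fun σ => by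
    obtain ⟨i⟩ := nonempty_HU_range (pieceMap U σ) (isOpenEmbedding_pieceMap U σ) G q
    exact ⟨((((Abelian.extFunctor.{u} q).obj (op ((constantSheaf (Opens.grothendieckTopology _) AddCommGrpCat.{u}).obj
      (AddCommGrpCat.of (ULift.{u} ℤ))))).mapIso
        ((PullH25.pullIso (pieceMap U σ) (nvBase (coverMap U) p)).app F)).addCommGroupIsoToAddEquiv).trans
      i.addCommGroupIsoToAddEquiv.symm⟩
  exact ⟨(AddEquiv.piCongrRight fun σ => (e' σ).some).toAddCommGrpIso ≪≫ e.symm⟩

variable {U} in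
/-- The spectral sequence. -/
theorem exists_closedCover (hU : ∀ i, IsClosed (U i)) (hlf : LocallyFinite U) (hcov : ⋃ i, U i = Set.univ)
    (E₁ : ℕ → ℕ → AddCommGrpCat.{u})
    (hE : ∀ p q, Nonempty (E₁ p q ≅ AddCommGrpCat.of (∀ σ : Fin (p + 1) → I,
      CohTop.H ((CohTop.pull (TopCat.ofHom ⟨((↑) : (⋂ k, U (σ k) : Set X) → X), continuous_subtype_val⟩ :
        TopCat.of (⋂ k, U (σ k) : Set X) ⟶ X)).obj F) q))) :
    ∃ (E : CohomologicalSpectralSequence AddCommGrpCat.{u} 1)
      (a : SpSeq.Abutment E (fun n : ℤ =>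
        if 0 ≤ n then AddCommGrpCat.of (CohTop.H F n.toNat) else AddCommGrpCat.of PUnit.{u + 1})),
      (∀ n, a.IsFinite n) ∧ SpSeq.IsBounded E ∧
      ∀ p q : ℤ, Nonempty ((E.page 1 le_rfl).X (p, q) ≅
        (if 0 ≤ p ∧ 0 ≤ q then E₁ p.toNat q.toNat else AddCommGrpCat.of PUnit.{u + 1})) :=
  exists_finiteMap (isFiniteMap_coverMap hU hlf) (surjective_coverMap hcov) F E₁
    (fun p q => ⟨(hE p q).some ≪≫ (nonempty_E₁_iso U F p q).some⟩)

end GrothLib.DescSS19
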