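import Mathlib.Algebra.Homology.HomologicalComplexAbelian
import Mathlib.Algebra.Homology.ShortComplex.HomologicalComplex
import Mathlib.CategoryTheory.Preadditive.Injective.Basic
import Mathlib.Algebra.Homology.Refinements

/-! # Injective objects among cochain complexes indexed by natural numbers -/

set_option autoImplicit false
universe v u

open CategoryTheory CategoryTheory.Limits

namespace GrothLib.DescSS19

variable {B : Type u} [Category.{v} B] [Abelian B]

/-- The complex with terms `V n ⊞ V (n+1)`, acyclic in positive degrees. -/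
noncomputable def pathCx (V : ℕ → B) : CochainComplex B ℕ :=
  CochainComplex.of (fun n => V n ⊞ V (n + 1)) (fun _ => biprod.snd ≫ biprod.inl)
    (fun n => by simp)

/-- Maps into the path complex. -/
noncomputable def toPathCx (K : CochainComplex B ℕ) (V : ℕ → B) (e : ∀ n, K.X n ⟶ V n) :
    K ⟶ pathCx V where
  f n := biprod.lift (e n) (K.d n (n + 1) ≫ e (n + 1))
  comm' i j (hij : i + 1 = j) := by
    subst hij
    simp [pathCx]
    refine biprod.hom_ext _ _ ?_ ?_
    · simp
    · simp

lemma pathCx_d (V : ℕ → B) (n : ℕ) :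
    (pathCx V).d n (n + 1) = biprod.snd ≫ biprod.inl :=
  by simp [pathCx]

lemma exact_step (V : ℕ → B) (n : ℕ) :
    (ShortComplex.mk (biprod.snd ≫ biprod.inl : V n ⊞ V (n + 1) ⟶ V (n + 1) ⊞ V (n + 1 + 1))
      (biprod.snd ≫ biprod.inl : _ ⟶ V (n + 1 + 1) ⊞ V (n + 1 + 1 + 1)) (by simp)).Exact := by
  rw [ShortComplex.exact_iff_exact_up_to_refinements]
  intro A x hx
  dsimp at x hx
  have h : x ≫ biprod.snd = 0 := by
    rw [← cancel_mono (biprod.inl : V (n + 1 + 1) ⟶ V (n + 1 + 1) ⊞ V (n + 1 + 1 + 1)),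
      Category.assoc]
    exact hx.trans zero_comp.symm
  refine ⟨A, 𝟙 A, inferInstance, x ≫ biprod.fst ≫ biprod.inr, ?_⟩
  dsimp
  refine biprod.hom_ext _ _ ?_ ?_
  · simp
  · simp [h]

lemma exactAt_pathCx (V : ℕ → B) (n : ℕ) : (pathCx V).ExactAt (n + 1) := by
  rw [HomologicalComplex.exactAt_iff' _ n (n + 1) (n + 1 + 1) (by simp) (by simp)]
  refine ShortComplex.exact_of_iso (S₂ := (pathCx V).sc' n (n + 1) (n + 1 + 1))
    (ShortComplex.isoMk (S₁ := ShortComplex.mk
      (biprod.snd ≫ biprod.inl : V n ⊞ V (n + 1) ⟶ V (n + 1) ⊞ V (n + 1 + 1))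
      (biprod.snd ≫ biprod.inl : _ ⟶ V (n + 1 + 1) ⊞ V (n + 1 + 1 + 1)) (by simp))
      (Iso.refl _) (Iso.refl _) (Iso.refl _) ?_ ?_) (exact_step V n)
  · exact (Category.id_comp _).trans ((pathCx_d V n).trans (Category.comp_id _).symm)
  · exact (Category.id_comp _).trans ((pathCx_d V (n + 1)).trans (Category.comp_id _).symm)

variable [EnoughInjectives B]

/-- The injective envelope of the terms. -/
noncomputable abbrev envCx (K : CochainComplex B ℕ) : CochainComplex B ℕ :=
  pathCx (fun n => Injective.under (K.X n))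

/-- The map to it. -/
noncomputable abbrev toEnvCx (K : CochainComplex B ℕ) : K ⟶ envCx K :=
  toPathCx K _ (fun n => Injective.ι (K.X n))

instance (K : CochainComplex B ℕ) : Mono (toEnvCx K) :=
  HomologicalComplex.mono_of_mono_f _ fun n =>
    mono_of_mono_fac (show (toEnvCx K).f n ≫ biprod.fst = Injective.ι (K.X n) from biprod.lift_fst _ _)

lemma exists_retraction (I : CochainComplex B ℕ) [Injective I] :
    ∃ r : envCx I ⟶ I, toEnvCx I ≫ r = 𝟙 I :=
  ⟨Injective.factorThru (𝟙 I) (toEnvCx I), Injective.comp_factorThru _ _⟩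

/-- Injective complexes are exact in positive degrees. -/
theorem exactAt_of_injective (I : CochainComplex B ℕ) [Injective I] (n : ℕ) : I.ExactAt (n + 1) := by
  obtain ⟨r, hr⟩ := exists_retraction I
  rw [HomologicalComplex.exactAt_iff_isZero_homology]
  have hz := (HomologicalComplex.exactAt_iff_isZero_homology _ _).1
    (exactAt_pathCx (fun n => Injective.under (I.X n)) n)
  refine (IsZero.iff_id_eq_zero _).2 ?_
  rw [← HomologicalComplex.homologyMap_id, ← hr, HomologicalComplex.homologyMap_comp,
    hz.eq_of_src (HomologicalComplex.homologyMap r (n + 1)) 0, comp_zero]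

/-- Their terms are injective. -/
theorem injective_X (I : CochainComplex B ℕ) [Injective I] (n : ℕ) : Injective (I.X n) := by
  obtain ⟨r, hr⟩ := exists_retraction I
  have : Injective ((envCx I).X n) :=
    inferInstanceAs (Injective (Injective.under (I.X n) ⊞ Injective.under (I.X (n + 1))))
  exact Retract.injective ⟨(toEnvCx I).f n, r.f n,
    (HomologicalComplex.comp_f _ _ _).symm.trans (congrArg (fun φ => φ.f n) hr)⟩

end GrothLib.DescSS19
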