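import Groth.Agent.Lib.DescSS19.Nerve
import Mathlib.Topology.Maps.Proper.UniversallyClosed

/-! # Cochains near a fibre of a finite map -/

set_option autoImplicit false
set_option linter.unusedVariables false
set_option backward.isDefEq.respectTransparency false
universe u

open CategoryTheory CategoryTheory.Limits TopologicalSpace Opposite Filter Topology

namespace GrothLib.DescSS19

variable {X S : TopCat.{u}} (f : X ⟶ S)

/-- A proper map with finite fibres and relatively separated points. -/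
structure IsFiniteMap : Prop where
  proper : IsProperMap f
  finite : ∀ s : S, (f ⁻¹' {s}).Finite
  sep : ∀ x x' : X, f x = f x' → x ≠ x' →
    ∃ U V : Set X, IsOpen U ∧ IsOpen V ∧ x ∈ U ∧ x' ∈ V ∧ Disjoint U V

lemma continuous_nvCoord (n : ℕ) (i : Fin (n + 1)) : Continuous fun p : Nv f n => p.1.2 i :=
  (continuous_apply i).comp (continuous_snd.comp continuous_subtype_val)

theorem isProperMap_nvBase (hf : IsProperMap f) (n : ℕ) : IsProperMap (nvBase f n) := by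
  refine isProperMap_iff_ultrafilter.2 ⟨(nvBase f n).hom.continuous, fun 𝒰 s h => ?_⟩
  have hi : ∀ i : Fin (n + 1), ∃ x : X, f x = s ∧ Tendsto (fun p : Nv f n => p.1.2 i) 𝒰 (𝓝 x) := fun i => by
    obtain ⟨x, hx, hle⟩ := (isProperMap_iff_ultrafilter.1 hf).2
      (𝒰 := 𝒰.map fun p : Nv f n => p.1.2 i) (y := s) (by
        rw [Ultrafilter.coe_map, Filter.tendsto_map'_iff]
        exact h.congr fun p => (p.2 i).symm)
    exact ⟨x, hx, hle⟩
  choose x hx ht using hi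
  refine ⟨⟨(s, x), hx⟩, rfl, ?_⟩
  rw [nhds_induced, ← Filter.map_le_iff_le_comap, nhds_prod_eq]
  exact Tendsto.prodMk h (tendsto_pi_nhds.2 ht)

variable {f}

theorem sep_nv (hf : IsFiniteMap f) {n : ℕ} (p p' : Nv f n) (h : p.1.1 = p'.1.1) (hne : p ≠ p') :
    ∃ U V : Set (Nv f n), IsOpen U ∧ IsOpen V ∧ p ∈ U ∧ p' ∈ V ∧ Disjoint U V := by
  obtain ⟨i, hi⟩ : ∃ i, p.1.2 i ≠ p'.1.2 i := by
    by_contra hc
    exact hne (Subtype.ext (Prod.ext h (funext fun i => not_not.1 fun hi => hc ⟨i, hi⟩)))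
  obtain ⟨U, V, hU, hV, hpU, hpV, hd⟩ := hf.sep _ _ ((p.2 i).trans (h.trans (p'.2 i).symm)) hi
  exact ⟨_, _, hU.preimage (continuous_nvCoord f n i), hV.preimage (continuous_nvCoord f n i), hpU, hpV,
    hd.preimage _⟩

theorem finite_nvFib (hf : IsFiniteMap f) (n : ℕ) (s : S) : Finite {p : Nv f n // p.1.1 = s} := by
  have : Finite (f ⁻¹' {s}) := (hf.finite s).to_subtype
  refine Finite.of_injective (fun p i => (⟨p.1.1.2 i, (p.1.2 i).trans p.2⟩ : (f ⁻¹' {s} : Set X))) fun p p' h => ?_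
  exact Subtype.ext (Subtype.ext (Prod.ext (p.2.trans p'.2.symm)
    (funext fun i => congrArg Subtype.val (congrFun h i))))

theorem exists_tube (hf : IsProperMap f) {n : ℕ} {s : S} {O : Set (Nv f n)} (hO : IsOpen O)
    (h : ∀ p : Nv f n, p.1.1 = s → p ∈ O) :
    ∃ V : Opens S, s ∈ V ∧ ∀ p : Nv f n, p.1.1 ∈ V → p ∈ O := by
  refine ⟨⟨(nvBase f n '' Oᶜ)ᶜ, ((isProperMap_nvBase f hf n).isClosedMap _ hO.isClosed_compl).isOpen_compl⟩,
    ?_, fun p hp => not_not.1 fun hpO => hp ⟨p, hpO, rfl⟩⟩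
  rintro ⟨p, hp, hps⟩
  exact hp (h p hps)

variable {F : CohTop.Ab S}

/-- Two cochains are equal near the points where they are equal. -/
theorem exists_nhd_eq {n : ℕ} {V : Opens S} (φ ψ : Coch f F n V) (w : nvOver f n V) (h : φ.1 w = ψ.1 w) :
    ∃ O : Opens (nvTop f n), w.1 ∈ O ∧ ∀ w' : nvOver f n V, w'.1 ∈ O → φ.1 w' = ψ.1 w' := by
  obtain ⟨U, σ, W, hw, hU, hσ⟩ := φ.2 w
  obtain ⟨U', σ', W', hw', hU', hσ'⟩ := ψ.2 w
  obtain ⟨V₀, hV₀, i, i', he⟩ := TopCat.Presheaf.germ_eq F.obj (nvBase f n w.1) (hU hw) (hU' hw') σ σ'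
    ((hσ w hw).symm.trans (h.trans (hσ' w hw')))
  refine ⟨W ⊓ W' ⊓ nvOver f n V₀, ⟨⟨hw, hw'⟩, hV₀⟩, fun v hv => ?_⟩
  rw [hσ v hv.1.1, hσ' v hv.1.2, ← TopCat.Presheaf.germ_res_apply F.obj i _ hv.2 σ, he,
    TopCat.Presheaf.germ_res_apply]

/-- A point over `s`. -/
abbrev pt {n : ℕ} (s : S) (x : Fin (n + 1) → X) (h : ∀ i, f (x i) = s) : Nv f n := ⟨(s, x), h⟩

/-- Restriction of cochains. -/
noncomputable def cochRes (f : X ⟶ S) (F : CohTop.Ab S) (n : ℕ) {V V' : Opens S} (h : V' ≤ V) :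
    Coch f F n V →+ Coch f F n V' where
  toFun φ := ⟨fun w => φ.1 ⟨w.1, h w.2⟩, fun w => by
    obtain ⟨U, s, W', hw, hU, hs⟩ := φ.2 ⟨w.1, h w.2⟩
    exact ⟨U, s, W', hw, hU, fun w' hw' => hs ⟨w'.1, h w'.2⟩ hw'⟩⟩
  map_zero' := rfl
  map_add' _ _ := rfl

@[simp] lemma cochRes_apply {n : ℕ} {V V' : Opens S} (h : V' ≤ V) (φ : Coch f F n V) (w : nvOver f n V') :
    (cochRes f F n h φ).1 w = φ.1 ⟨w.1, h w.2⟩ := rfl

/-- Cochains equal on a fibre are equal near it. -/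
theorem eq_near (hf : IsProperMap f) {n : ℕ} {V : Opens S} {s : S} (hs : s ∈ V) (φ ψ : Coch f F n V)
    (h : ∀ (x : Fin (n + 1) → X) (hx : ∀ i, f (x i) = s),
      φ.1 ⟨pt s x hx, hs⟩ = ψ.1 ⟨pt s x hx, hs⟩) :
    ∃ (V' : Opens S) (hV : V' ≤ V), s ∈ V' ∧ cochRes f F n hV φ = cochRes f F n hV ψ := by
  let O : Set (Nv f n) := {p | ∃ O : Opens (nvTop f n), p ∈ O ∧
    ∀ w : nvOver f n V, w.1 ∈ O → φ.1 w = ψ.1 w}
  have hO : IsOpen O := isOpen_iff_forall_mem_open.2 fun p ⟨O', hp, hO'⟩ =>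
    ⟨O', fun q hq => ⟨O', hq, hO'⟩, O'.2, hp⟩
  obtain ⟨V₁, hs₁, hV₁⟩ := exists_tube hf hO (s := s) fun p hp => by
    obtain ⟨⟨s', x⟩, hx⟩ := p
    obtain rfl : s' = s := hp
    exact exists_nhd_eq φ ψ ⟨pt s' x hx, hs⟩ (h x hx)
  refine ⟨V₁ ⊓ V, inf_le_right, ⟨hs₁, hs⟩, Subtype.ext (funext fun w => ?_)⟩
  obtain ⟨O', hp, hO'⟩ := hV₁ w.1 w.2.1
  exact hO' ⟨w.1, w.2.2⟩ hp

/-- Values on a fibre extend to cochains near it. -/
theorem exists_extend (hf : IsFiniteMap f) {n : ℕ} (s : S)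
    (a : ∀ x : Fin (n + 1) → X, (∀ i, f (x i) = s) → CohTop.stalk F s) :
    ∃ (V : Opens S) (hs : s ∈ V) (ψ : Coch f F n V),
      ∀ x hx, ψ.1 ⟨pt s x hx, hs⟩ = a x hx := by
  classical
  let ι := {p : Nv f n // p.1.1 = s}
  have : Finite ι := finite_nvFib hf n s
  have hrep : ∀ q : ι, ∃ (U : Opens S) (hU : s ∈ U) (σ : F.obj.obj (op U)),
      TopCat.Presheaf.germ F.obj U s hU σ = a q.1.1.2 fun i => (q.1.2 i).trans q.2 :=
    fun q => TopCat.Presheaf.exists_germ_eq F.obj _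
  choose U hU σ hσ using hrep
  have hsep : ∀ q q' : ι, ∃ A B : Set (Nv f n), IsOpen A ∧ IsOpen B ∧ q.1 ∈ A ∧ q'.1 ∈ B ∧
      (q ≠ q' → Disjoint A B) := fun q q' => by
    by_cases h : q = q'
    · exact ⟨Set.univ, Set.univ, isOpen_univ, isOpen_univ, trivial, trivial, fun hne => absurd h hne⟩
    · obtain ⟨A, B, hA, hB, hq, hq', hd⟩ := sep_nv hf q.1 q'.1 (q.2.trans q'.2.symm)
        (fun e => h (Subtype.ext e))
      exact ⟨A, B, hA, hB, hq, hq', fun _ => hd⟩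
  choose A B hA hB hqA hqB hAB using hsep
  let W : ι → Opens (nvTop f n) := fun q =>
    ⟨⋂ q' : ι, A q q' ∩ B q' q, isOpen_iInter_of_finite fun q' => (hA q q').inter (hB q' q)⟩ ⊓
      nvOver f n (U q)
  have huniq : ∀ q q' (p : Nv f n), p ∈ W q → p ∈ W q' → q = q' := fun q q' p h h' => by
    by_contra hne
    exact Set.disjoint_left.1 (hAB q q' hne) (Set.mem_iInter.1 h.1 q').1 (Set.mem_iInter.1 h'.1 q).2
  obtain ⟨V, hsV, hV⟩ := exists_tube hf.proper (O := ⋃ q, (W q : Set (Nv f n)))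
    (isOpen_iUnion fun q => (W q).2) (s := s) fun p hp => Set.mem_iUnion.2 ⟨⟨p, hp⟩,
      ⟨Set.mem_iInter.2 fun q' => ⟨hqA ⟨p, hp⟩ q', hqB q' ⟨p, hp⟩⟩,
        show p.1.1 ∈ U ⟨p, hp⟩ from hp.symm ▸ hU ⟨p, hp⟩⟩⟩
  have hidx : ∀ w : nvOver f n V, ∃ q, w.1 ∈ W q := fun w => Set.mem_iUnion.1 (hV w.1 w.2)
  choose idx hmem using hidx
  refine ⟨V, hsV, ⟨fun w => TopCat.Presheaf.germ F.obj (U (idx w)) (nvBase f n w.1) (hmem w).2 (σ (idx w)),
    fun w => ⟨U (idx w), σ (idx w), W (idx w), hmem w, fun p hp => hp.2, fun w' hw' => ?_⟩⟩, fun x hx => ?_⟩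
  · have : ∀ (q : ι) (hq : w'.1 ∈ W q), idx w' = q →
        TopCat.Presheaf.germ F.obj (U (idx w')) (nvBase f n w'.1) (hmem w').2 (σ (idx w')) =
          TopCat.Presheaf.germ F.obj (U q) (nvBase f n w'.1) hq.2 (σ q) := by
      intro q hq e
      subst e
      rfl
    exact this _ hw' (huniq _ _ w'.1 (hmem w') hw')
  · let q : ι := ⟨pt s x hx, rfl⟩
    have hq : idx ⟨pt s x hx, hsV⟩ = q := huniq _ _ (pt s x hx) (hmem _)
      ⟨Set.mem_iInter.2 fun q' => ⟨hqA q q', hqB q' q⟩, hU q⟩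
    have : ∀ (q' : ι) (hq' : s ∈ U q'), q' = q →
        TopCat.Presheaf.germ F.obj (U q') s hq' (σ q') = a x hx := by
      intro q' hq' e
      subst e
      exact hσ q
    exact this _ (hmem ⟨pt s x hx, hsV⟩).2 hq

end GrothLib.DescSS19
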