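import Groth.Agent.Lib.DescSS19.Main
import Groth.Agent.Lib.SheafCoh.AcyclicRes

/-! # The first page spectral sequence of a resolution by arbitrary objects -/

set_option autoImplicit false
universe v v' u u'
set_option backward.isDefEq.respectTransparency false

open CategoryTheory CategoryTheory.Limits

namespace GrothLib.DescSS19

open GrothLib GrothLib.GrothSS

variable {A : Type u} [Category.{v} A] [Abelian A]

/-- Degree zero cohomology preserves injective objects. -/
theorem injective_h0 (I : CochainComplex A ℕ) [Injective I] : Injective ((h0 A).obj I) := by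
  have : IsIso (I.homologyπ 0) := I.isoHomologyπ₀.isIso_hom
  have : Injective (I.cycles 0) := ⟨fun {Y Z} g f hf => by
    have hw : (g ≫ I.iCycles 0) ≫ I.d 0 1 = 0 := by simp
    let g' := (CochainComplex.fromSingle₀Equiv I Y).symm ⟨g ≫ I.iCycles 0, hw⟩
    let h := Injective.factorThru g' ((CochainComplex.single₀ A).map f)
    have hh : (CochainComplex.single₀ A).map f ≫ h = g' := Injective.comp_factorThru _ _
    let k := (CochainComplex.fromSingle₀Equiv I Z) h
    refine ⟨I.liftCycles k.1 1 (by simp) k.2, ?_⟩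
    rw [← cancel_mono (I.iCycles 0), Category.assoc, HomologicalComplex.liftCycles_i]
    have h0 := congrArg (fun φ => φ.f 0) hh
    simp [g'] at h0
    exact h0⟩
  exact Injective.of_iso I.isoHomologyπ₀ inferInstance

variable {B : Type u'} [Category.{v'} B] [Abelian B] (G : A ⥤ B) [G.Additive]

lemma exact_map_step (V : ℕ → A) (n : ℕ) :
    ((ShortComplex.mk (biprod.snd ≫ biprod.inl : V n ⊞ V (n + 1) ⟶ V (n + 1) ⊞ V (n + 1 + 1))
      (biprod.snd ≫ biprod.inl : _ ⟶ V (n + 1 + 1) ⊞ V (n + 1 + 1 + 1)) (by simp)).map G).Exact := by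
  rw [ShortComplex.exact_iff_exact_up_to_refinements]
  intro W (x : W ⟶ G.obj (V (n + 1) ⊞ V (n + 1 + 1)))
    (hx : x ≫ G.map (biprod.snd ≫ biprod.inl : _ ⟶ V (n + 1 + 1) ⊞ V (n + 1 + 1 + 1)) = 0)
  have h : x ≫ G.map (biprod.snd : V (n + 1) ⊞ V (n + 1 + 1) ⟶ _) = 0 := by
    rw [← cancel_mono (G.map (biprod.inl : V (n + 1 + 1) ⟶ V (n + 1 + 1) ⊞ V (n + 1 + 1 + 1))),
      Category.assoc, ← G.map_comp, hx, zero_comp]
  refine ⟨W, 𝟙 W, inferInstance, x ≫ G.map biprod.fst ≫ G.map biprod.inr, ?_⟩
  change 𝟙 W ≫ x = (x ≫ G.map (biprod.fst : V (n + 1) ⊞ V (n + 1 + 1) ⟶ _) ≫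
    G.map (biprod.inr : V (n + 1) ⟶ V n ⊞ V (n + 1))) ≫
      G.map (biprod.snd ≫ biprod.inl : V n ⊞ V (n + 1) ⟶ V (n + 1) ⊞ V (n + 1 + 1))
  have e : x = x ≫ G.map (biprod.fst ≫ biprod.inl + biprod.snd ≫ biprod.inr) := by
    rw [biprod.total]; simp
  rw [Category.id_comp, Category.assoc, Category.assoc, ← G.map_comp biprod.inr, biprod.inr_snd_assoc,
    ← G.map_comp]
  conv_lhs => rw [e, G.map_add, Preadditive.comp_add, G.map_comp biprod.snd,
    ← Category.assoc x (G.map biprod.snd), h, zero_comp, add_zero]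

lemma exactAt_map_pathCx (V : ℕ → A) (n : ℕ) :
    ((G.mapHomologicalComplex (ComplexShape.up ℕ)).obj (pathCx V)).ExactAt (n + 1) := by
  rw [HomologicalComplex.exactAt_iff' _ n (n + 1) (n + 1 + 1) (by simp) (by simp)]
  refine ShortComplex.exact_of_iso
    (S₂ := ((G.mapHomologicalComplex (ComplexShape.up ℕ)).obj (pathCx V)).sc' n (n + 1) (n + 1 + 1))
    (ShortComplex.isoMk (S₁ := (ShortComplex.mk
      (biprod.snd ≫ biprod.inl : V n ⊞ V (n + 1) ⟶ V (n + 1) ⊞ V (n + 1 + 1))
      (biprod.snd ≫ biprod.inl : _ ⟶ V (n + 1 + 1) ⊞ V (n + 1 + 1 + 1)) (by simp)).map G)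
      (Iso.refl _) (Iso.refl _) (Iso.refl _) ?_ ?_) (exact_map_step G V n)
  · exact (Category.id_comp _).trans ((congrArg G.map (pathCx_d V n)).trans (Category.comp_id _).symm)
  · exact (Category.id_comp _).trans ((congrArg G.map (pathCx_d V (n + 1))).trans (Category.comp_id _).symm)

variable [EnoughInjectives A]

lemma isZero_homology_map_injective (I : CochainComplex A ℕ) [Injective I] (n : ℕ) :
    IsZero (((G.mapHomologicalComplex (ComplexShape.up ℕ)).obj I).homology (n + 1)) := by
  obtain ⟨r, hr⟩ := exists_retraction I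
  have hz := (HomologicalComplex.exactAt_iff_isZero_homology _ _).1
    (exactAt_map_pathCx G (fun k => Injective.under (I.X k)) n)
  refine (IsZero.iff_id_eq_zero _).2 ?_
  rw [← HomologicalComplex.homologyMap_id, ← CategoryTheory.Functor.map_id, ← hr,
    CategoryTheory.Functor.map_comp, HomologicalComplex.homologyMap_comp,
    hz.eq_of_src (HomologicalComplex.homologyMap ((G.mapHomologicalComplex (ComplexShape.up ℕ)).map r) (n + 1)) 0,
    comp_zero]

variable [PreservesFiniteLimits G]

/-- The comparison map on cycles in degree zero. -/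
noncomputable def cycComp (K : CochainComplex A ℕ) :
    G.obj (K.cycles 0) ⟶ ((G.mapHomologicalComplex (ComplexShape.up ℕ)).obj K).cycles 0 :=
  ((G.mapHomologicalComplex (ComplexShape.up ℕ)).obj K).liftCycles (G.map (K.iCycles 0)) 1 (by simp)
    (show G.map (K.iCycles 0) ≫ G.map (K.d 0 1) = 0 by
      rw [← G.map_comp, K.iCycles_d, G.map_zero])

omit [EnoughInjectives A] in
lemma isIso_cycComp (K : CochainComplex A ℕ) : IsIso (cycComp G K) := by
  have hl := (KernelFork.isLimitMapConeEquiv (KernelFork.ofι (K.iCycles 0) (K.iCycles_d 0 1)) G).1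
    (isLimitOfPreserves G (K.cyclesIsKernel 0 1 (by simp)))
  let hl' := ((G.mapHomologicalComplex (ComplexShape.up ℕ)).obj K).cyclesIsKernel 0 1 (by simp)
  have e := (hl.conePointUniqueUpToIso hl').isIso_hom
  have he : cycComp G K = (hl.conePointUniqueUpToIso hl').hom := ?_
  · exact he ▸ e
  refine (cancel_mono (((G.mapHomologicalComplex (ComplexShape.up ℕ)).obj K).iCycles 0)).1 ?_
  refine (HomologicalComplex.liftCycles_i _ _ _ _ _).trans ?_
  exact (hl.conePointUniqueUpToIso_hom_comp hl' WalkingParallelPair.zero).symm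

/-- Cohomology in degree zero commutes with left exact functors. -/
noncomputable def h0CompIso :
    G.mapHomologicalComplex (ComplexShape.up ℕ) ⋙ h0 B ≅ h0 A ⋙ G :=
  haveI : ∀ K : CochainComplex A ℕ, IsIso (cycComp G K) := isIso_cycComp G
  (NatIso.ofComponents
    (fun K => G.mapIso K.isoHomologyπ₀.symm ≪≫ asIso (cycComp G K) ≪≫
      CochainComplex.isoHomologyπ₀ ((G.mapHomologicalComplex (ComplexShape.up ℕ)).obj K))
    (fun {K L} f => by
      dsimp
      have h1 : HomologicalComplex.homologyMap f 0 ≫ L.isoHomologyπ₀.inv =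
          K.isoHomologyπ₀.inv ≫ HomologicalComplex.cyclesMap f 0 := by
        rw [Iso.eq_inv_comp, ← Category.assoc, Iso.comp_inv_eq]
        exact HomologicalComplex.homologyπ_naturality f 0
      have h2 : G.map (HomologicalComplex.cyclesMap f 0) ≫ cycComp G L = cycComp G K ≫
          HomologicalComplex.cyclesMap ((G.mapHomologicalComplex (ComplexShape.up ℕ)).map f) 0 := by
        rw [← cancel_mono (((G.mapHomologicalComplex (ComplexShape.up ℕ)).obj L).iCycles 0),
          Category.assoc, Category.assoc, HomologicalComplex.cyclesMap_i]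
        simp only [cycComp]
        erw [HomologicalComplex.liftCycles_i, HomologicalComplex.liftCycles_i_assoc]
        exact (G.map_comp _ _).symm.trans
          ((congrArg G.map (HomologicalComplex.cyclesMap_i f 0)).trans (G.map_comp _ _))
      simp only [h0, HomologicalComplex.homologyFunctor_map]
      rw [← G.map_comp_assoc, h1, G.map_comp_assoc, reassoc_of% h2, Category.assoc, Category.assoc]
      congr 2
      exact (HomologicalComplex.homologyπ_naturality _ 0).symm) :
    h0 A ⋙ G ≅ G.mapHomologicalComplex (ComplexShape.up ℕ) ⋙ h0 B).symm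

variable [EnoughInjectives (CochainComplex A ℕ)] [EnoughInjectives B]
  [EnoughInjectives (CochainComplex B ℕ)]

omit [EnoughInjectives B] [EnoughInjectives (CochainComplex B ℕ)] in
/-- The derived functors of `G ∘ H⁰` on a resolution. -/
theorem nonempty_rightDerived_h0_comp (K : CochainComplex A ℕ) (hK : ∀ n, K.ExactAt (n + 1))
    (n : ℕ) : Nonempty (((G.mapHomologicalComplex (ComplexShape.up ℕ) ⋙ h0 B).rightDerived n).obj K ≅
      (G.rightDerived n).obj ((h0 A).obj K)) := by
  have := preservesFiniteLimits_h0 (B := A)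
  let P := injectiveResolution K
  let I := SheafCoh.mapInjectiveResolution (h0 A) P (fun J hJ => injective_h0 J)
    (fun k => ((HomologicalComplex.exactAt_iff_isZero_homology _ _).1 (hK k)).of_iso
      (nonempty_rightDerived_h0_iso K (k + 1)).some)
  exact ⟨P.isoRightDerivedObj _ n ≪≫
    (HomologicalComplex.homologyFunctor _ _ n).mapIso
      (((NatIso.mapHomologicalComplex (h0CompIso G) (ComplexShape.up ℕ)) ≪≫
        (Functor.mapHomologicalComplexCompIso (Iso.refl (h0 A ⋙ G))
          (ComplexShape.up ℕ)).symm).app P.cocomplex) ≪≫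
    (I.isoRightDerivedObj G n).symm⟩

/-- The spectral sequence of a resolution. -/
theorem exists_of_resolution (F : A) (K : CochainComplex A ℕ) (hK : ∀ n, K.ExactAt (n + 1))
    (e : F ≅ K.homology 0) (E₁ : ℕ → ℕ → B) (H : ℕ → B) (Z : B) (hZ : IsZero Z)
    (hH : ∀ n : ℕ, Nonempty (H n ≅ (G.rightDerived n).obj F))
    (hE : ∀ p q : ℕ, Nonempty (E₁ p q ≅ (G.rightDerived q).obj (K.X p))) :
    ∃ (E : CohomologicalSpectralSequence B 1)
      (a : SpSeq.Abutment E (fun n : ℤ => if 0 ≤ n then H n.toNat else Z)),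
      (∀ n, a.IsFinite n) ∧ SpSeq.IsBounded E ∧
      ∀ p q : ℤ, Nonempty ((E.page 1 le_rfl).X (p, q) ≅
        (if 0 ≤ p ∧ 0 ≤ q then E₁ p.toNat q.toNat else Z)) := by
  refine exists_of_functor (G.mapHomologicalComplex (ComplexShape.up ℕ))
    (fun I _ n => isZero_homology_map_injective G I n) K E₁ H Z hZ
    (fun n => ⟨(hH n).some ≪≫ (G.rightDerived n).mapIso e ≪≫
      (nonempty_rightDerived_h0_comp G K hK n).some.symm⟩) (fun p q => ⟨?_⟩)
  let P := injectiveResolution K
  have : PreservesFiniteLimits (HomologicalComplex.eval A (ComplexShape.up ℕ) p) := inferInstance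
  let I := SheafCoh.mapInjectiveResolution (HomologicalComplex.eval A (ComplexShape.up ℕ) p) P
    (fun J hJ => injective_X J p) (fun k => by
      refine IsZero.of_iso ((HomologicalComplex.eval A (ComplexShape.up ℕ) p).map_isZero
          ((HomologicalComplex.exactAt_iff_isZero_homology _ _).1 (P.cocomplex_exactAt_succ k)))
        (P.isoRightDerivedObj _ (k + 1) ≪≫
          SheafCoh.mapHCHomologyIso (HomologicalComplex.eval A (ComplexShape.up ℕ) p) _ _))
  exact (hE p q).some ≪≫ I.isoRightDerivedObj G q ≪≫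
    (P.isoRightDerivedObj (G.mapHomologicalComplex (ComplexShape.up ℕ) ⋙
      HomologicalComplex.eval B (ComplexShape.up ℕ) p) q ≪≫
      (HomologicalComplex.homologyFunctor _ _ q).mapIso
        (HomologicalComplex.Hom.isoOfComponents (fun _ => Iso.refl _)
          (fun i j _ => (Category.id_comp _).trans (Category.comp_id _).symm))).symm

end GrothLib.DescSS19
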