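import Groth.Agent.Lib.DescSS19.FinRes
import Groth.Agent.Lib.DescSS19.Res
import Groth.Agent.Lib.PBC25.ProperBC
import Groth.Agent.Lib.SheafCoh.Leray
import Groth.Agent.Acyc25.Basic
import Mathlib.CategoryTheory.Abelian.GrothendieckCategory.EnoughInjectives
import Mathlib.Algebra.Homology.GrothendieckAbelian

/-! # The descent spectral sequence of a surjective finite map -/

set_option autoImplicit false
set_option linter.unusedVariables false
set_option backward.isDefEq.respectTransparency false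
universe u

open CategoryTheory CategoryTheory.Limits TopologicalSpace Opposite

namespace GrothLib.DescSS19

open GrothLib

variable {X S : TopCat.{u}} {f : X ⟶ S}

theorem isZero_Rpush_nvBase (hf : IsFiniteMap f) {n : ℕ} (G : CohTop.Ab (nvTop f n)) (q : ℕ) :
    IsZero ((CohTop.Rpush (nvBase f n) (q + 1)).obj G) := by
  have hp := isProperMap_nvBase f hf.proper n
  have hs : ∀ p p' : nvTop f n, nvBase f n p = nvBase f n p' → p ≠ p' →
      ∃ U V : Set (nvTop f n), IsOpen U ∧ IsOpen V ∧ p ∈ U ∧ p' ∈ V ∧ Disjoint U V :=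
    fun p p' h hne => sep_nv hf p p' h hne
  refine PBC25.isZero_of_stalks _ fun s => ?_
  obtain ⟨e⟩ := PBC25.nonempty_stalk_Rpush_iso (y := s) hp hs G (q + 1)
  refine IsZero.of_iso ?_ e
  have : Finite (nvBase f n ⁻¹' {s} : Set (nvTop f n)) := finite_nvFib hf n s
  have := PBC25.compact_fib (nvBase f n) s hp
  have : T2Space (TopCat.of (nvBase f n ⁻¹' {s})) := (PBC25.separates_fib (nvBase f n) s hs).t2
  have : TotallyDisconnectedSpace (TopCat.of (nvBase f n ⁻¹' {s})) := by
    have : Finite (TopCat.of (nvBase f n ⁻¹' {s})) := finite_nvFib hf n s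
    infer_instance
  have := Acyc25.subsingleton_H_of_profinite ((CohTop.pull (PBC25.fibIncl (nvBase f n) s)).obj G) q
  exact AddCommGrpCat.isZero_of_subsingleton _

theorem nonempty_rightDerived_cochSh_iso (hf : IsFiniteMap f) (F : CohTop.Ab S) (p q : ℕ) :
    Nonempty (AddCommGrpCat.of (CohTop.H ((CohTop.pull (nvBase f p)).obj F) q) ≅
      ((GrothSS.secAt (Opens.grothendieckTopology S) (⊤ : Opens S)).rightDerived q).obj (cochSh f F p)) := by
  let G := (CohTop.pull (nvBase f p)).obj F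
  obtain ⟨e⟩ := SheafCoh.nonempty_H_addEquiv_push (nvBase f p) G (isZero_Rpush_nvBase hf G) q
  exact ⟨(e.trans (SheafCoh.HEquivHU ((CohTop.push (nvBase f p)).obj G) q (isTerminalTop (α := Opens S)))).toAddCommGrpIso ≪≫
    (GrothSS.rightDerivedSecAtIso (Opens.grothendieckTopology S) ⊤ _ q).symm ≪≫
    ((GrothSS.secAt (Opens.grothendieckTopology S) (⊤ : Opens S)).rightDerived q).mapIso (cochShIso f F p).symm⟩

/-- The spectral sequence. -/
theorem exists_finiteMap (hf : IsFiniteMap f) (hsurj : Function.Surjective f) (F : CohTop.Ab S)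
    (E₁ : ℕ → ℕ → AddCommGrpCat.{u})
    (hE : ∀ p q, Nonempty (E₁ p q ≅ AddCommGrpCat.of (CohTop.H ((CohTop.pull (nvBase f p)).obj F) q))) :
    ∃ (E : CohomologicalSpectralSequence AddCommGrpCat.{u} 1)
      (a : SpSeq.Abutment E (fun n : ℤ =>
        if 0 ≤ n then AddCommGrpCat.of (CohTop.H F n.toNat) else AddCommGrpCat.of PUnit.{u + 1})),
      (∀ n, a.IsFinite n) ∧ SpSeq.IsBounded E ∧
      ∀ p q : ℤ, Nonempty ((E.page 1 le_rfl).X (p, q) ≅
        (if 0 ≤ p ∧ 0 ≤ q then E₁ p.toNat q.toNat else AddCommGrpCat.of PUnit.{u + 1})) :=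
  exists_of_resolution (GrothSS.secAt (Opens.grothendieckTopology S) (⊤ : Opens S)) F (shCx f F)
    (exactAt_shCx hf hsurj) (shAugIso hf.proper hsurj) E₁ (fun n => AddCommGrpCat.of (CohTop.H F n))
    (AddCommGrpCat.of PUnit.{u + 1}) (AddCommGrpCat.isZero_of_subsingleton _)
    (fun n => ⟨(SheafCoh.HEquivHU F n (isTerminalTop (α := Opens S))).toAddCommGrpIso ≪≫
      (GrothSS.rightDerivedSecAtIso (Opens.grothendieckTopology S) ⊤ F n).symm⟩)
    (fun p q => ⟨(hE p q).some ≪≫ (nonempty_rightDerived_cochSh_iso hf F p q).some⟩)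

end GrothLib.DescSS19
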