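import Groth.Agent.Lib.ClosedEmb25.Basic
import Groth.Prelude.Def_CohTop

/-! # Stalks of an inverse image, on germs -/

set_option autoImplicit false
set_option backward.isDefEq.respectTransparency false
universe u

open CategoryTheory CategoryTheory.Limits TopologicalSpace Opposite

namespace GrothLib.DescSS19

variable {T S : TopCat.{u}} (t : T ⟶ S) (F : CohTop.Ab S)

/-- The unit of inverse and direct image. -/
noncomputable abbrev pullUnit : F ⟶ (CohTop.push t).obj ((CohTop.pull t).obj F) :=
  (TopCat.Sheaf.pullbackPushforwardAdjunction AddCommGrpCat.{u} t).unit.app F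

/-- A section pulled back. -/
noncomputable def pullSec (V : Opens S) (s : F.obj.obj (op V)) :
    ((CohTop.pull t).obj F).obj.obj (op ((Opens.map t).obj V)) :=
  (pullUnit t F).hom.app (op V) s

/-- The comparison of stalks. -/
noncomputable def phi (w : T) : CohTop.stalk F (t w) ⟶ CohTop.stalk ((CohTop.pull t).obj F) w :=
  (TopCat.Presheaf.stalkFunctor AddCommGrpCat.{u} (t w)).map (pullUnit t F).hom ≫
    TopCat.Presheaf.stalkPushforward _ t ((CohTop.pull t).obj F).obj w

lemma germ_phi (w : T) (V : Opens S) (hw : t w ∈ V) :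
    TopCat.Presheaf.germ F.obj V (t w) hw ≫ phi t F w =
      (pullUnit t F).hom.app (op V) ≫
        TopCat.Presheaf.germ ((CohTop.pull t).obj F).obj ((Opens.map t).obj V) w hw := by
  rw [phi]
  erw [TopCat.Presheaf.stalkFunctor_map_germ_assoc]
  congr 1
  exact TopCat.Presheaf.stalkPushforward_germ ..

lemma phi_germ (w : T) (V : Opens S) (hw : t w ∈ V) (s : F.obj.obj (op V)) :
    phi t F w (TopCat.Presheaf.germ F.obj V (t w) hw s) =
      TopCat.Presheaf.germ ((CohTop.pull t).obj F).obj ((Opens.map t).obj V) w hw (pullSec t F V s) :=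
  ConcreteCategory.congr_hom (germ_phi t F w V hw) s

section Sky

variable {X : TopCat.{u}} (x : X) [∀ U : Opens X, Decidable (x ∈ U)]

lemma sky_unit_app (G : X.Sheaf AddCommGrpCat.{u}) (V : Opens X) (hV : x ∈ V) :
    ((stalkSkyscraperSheafAdjunction (C := AddCommGrpCat.{u}) x).unit.app G).hom.app (op V) =
      TopCat.Presheaf.germ G.obj V x hV ≫ eqToHom (if_pos hV).symm := by
  change (StalkSkyscraperPresheafAdjunctionAuxs.toSkyscraperPresheaf x (𝟙 _)).app (op V) = _
  rw [StalkSkyscraperPresheafAdjunctionAuxs.toSkyscraperPresheaf_app, dif_pos hV]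
  exact congrArg (TopCat.Presheaf.germ G.obj V x hV ≫ ·) (Category.id_comp _)

lemma sky_map_app {a b : AddCommGrpCat.{u}} (g : a ⟶ b) (V : Opens X) (hV : x ∈ V) :
    ((skyscraperSheafFunctor (C := AddCommGrpCat.{u}) x).map g).hom.app (op V) =
      eqToHom (if_pos hV) ≫ g ≫ eqToHom (if_pos hV).symm := by
  change (SkyscraperPresheafFunctor.map' x g).app (op V) = _
  rw [SkyscraperPresheafFunctor.map'_app, dif_pos hV]

end Sky

open scoped Classical in
theorem phi_eq (w : T) :
    phi t F w = (ClosedEmb.stalkPullNatIso AddCommGrpCat.{u} (i := t) w).inv.app F := by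
  let adjC := ((TopCat.Sheaf.pullbackPushforwardAdjunction AddCommGrpCat.{u} t).comp
    (stalkSkyscraperSheafAdjunction (C := AddCommGrpCat.{u}) w)).ofNatIsoRight
      (ClosedEmb.skyPushIso AddCommGrpCat.{u} (i := t) w)
  let adj2 := stalkSkyscraperSheafAdjunction (C := AddCommGrpCat.{u}) (t w)
  refine TopCat.Presheaf.stalk_hom_ext _ fun V hV => ?_
  rw [germ_phi]
  let e := (ClosedEmb.stalkPullNatIso AddCommGrpCat.{u} (i := t) w).inv.app F
  have h : adj2.unit.app F ≫ (skyscraperSheafFunctor (C := AddCommGrpCat.{u}) (t w)).map e =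
      adjC.unit.app F := Adjunction.unit_leftAdjointUniq_hom_app adj2 adjC F
  have h' : (adj2.unit.app F).hom.app (op V) ≫
      ((skyscraperSheafFunctor (C := AddCommGrpCat.{u}) (t w)).map e).hom.app (op V) =
      (pullUnit t F).hom.app (op V) ≫ ((stalkSkyscraperSheafAdjunction (C := AddCommGrpCat.{u}) w).unit.app
        ((CohTop.pull t).obj F)).hom.app (op ((Opens.map t).obj V)) := by
    refine (congrArg (fun g => g.hom.app (op V)) h).trans ?_
    simp [adjC, Adjunction.ofNatIsoRight, ClosedEmb.skyPushIso]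
    rfl
  rw [sky_unit_app _ F V hV, sky_map_app _ e V hV, sky_unit_app w _ _ hV] at h'
  erw [Category.assoc, eqToHom_trans_assoc, eqToHom_refl, Category.id_comp] at h'
  erw [← Category.assoc, ← Category.assoc] at h'
  exact ((cancel_mono _).1 h').symm

theorem bijective_phi (w : T) : Function.Bijective (phi t F w) := by
  rw [phi_eq]
  exact ConcreteCategory.bijective_of_isIso _

end GrothLib.DescSS19
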