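import Groth.Agent.Lib.DescSS19.Nerve
import Mathlib.Topology.IsLocalHomeomorph

/-! # Injective sheaves: local germ families from arbitrary families -/

set_option autoImplicit false
set_option backward.isDefEq.respectTransparency false
set_option linter.unusedVariables false
universe u

open CategoryTheory CategoryTheory.Limits TopologicalSpace Opposite

namespace GrothLib.DescSS19

variable {S : TopCat.{u}} (I : CohTop.Ab S)

/-- The underlying set with the discrete topology, over the space. -/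
noncomputable abbrev dsc (S : TopCat.{u}) := TopCat.adj₁.counit.app S

/-- The sheaf of all families of germs. -/
noncomputable abbrev god : CohTop.Ab S := (CohTop.push (dsc S)).obj ((CohTop.pull (dsc S)).obj I)

/-- The value of a family at a point. -/
noncomputable def gval (V : Opens S) (σ : (god I).obj.obj (op V)) (v : S) (hv : v ∈ V) : CohTop.stalk I v :=
  famSec (dsc S) I ((Opens.map (dsc S)).obj V) σ ⟨v, hv⟩

lemma gval_res {V V' : Opens S} (h : V' ≤ V) (σ : (god I).obj.obj (op V)) (v : S) (hv : v ∈ V') :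
    gval I V' ((god I).obj.map (homOfLE h).op σ) v hv = gval I V σ v (h hv) :=
  famSec_res (dsc S) I (fun x hx => h hx : (Opens.map (dsc S)).obj V' ≤ (Opens.map (dsc S)).obj V) σ ⟨v, hv⟩

lemma gval_ext {V : Opens S} {σ σ' : (god I).obj.obj (op V)}
    (h : ∀ v hv, gval I V σ v hv = gval I V σ' v hv) : σ = σ' :=
  famSec_injective (dsc S) I _ (funext fun v => h v.1 v.2)

lemma exists_gval (V : Opens S) (a : ∀ v : S, CohTop.stalk I v) :
    ∃ σ : (god I).obj.obj (op V), ∀ v hv, gval I V σ v hv = a v := by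
  obtain ⟨σ, hσ⟩ := exists_famSec_eq (dsc S) I ((Opens.map (dsc S)).obj V) (fun w => a w.1)
    (by
      intro w
      obtain ⟨U, hU, s, hs⟩ := TopCat.Presheaf.exists_germ_eq I.obj (a w.1)
      exact ⟨U, s, ⟨{w.1}, trivial⟩, rfl, fun x hx => by
          obtain rfl : x = w.1 := hx
          exact hU,
        fun w' h => by
          obtain ⟨w', hw'⟩ := w'
          obtain rfl : w' = w.1 := h
          exact hs.symm⟩)
  exact ⟨σ, fun v hv => congrFun hσ ⟨v, hv⟩⟩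

/-- Into the sheaf of all families. -/
noncomputable abbrev toGod : I ⟶ god I := pullUnit (dsc S) I

lemma gval_toGod (V : Opens S) (s : I.obj.obj (op V)) (v : S) (hv : v ∈ V) :
    gval I V ((toGod I).hom.app (op V) s) v hv = TopCat.Presheaf.germ I.obj V v hv s := by
  apply (bijective_phi (dsc S) I v).1
  exact (phi_famSec (dsc S) I ((Opens.map (dsc S)).obj V) (pullSec (dsc S) I V s) ⟨v, hv⟩).trans
    (phi_germ (dsc S) I v V hv s).symm

theorem mono_toGod : Mono (toGod I) := by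
  have : ∀ W : (Opens S)ᵒᵖ, Mono ((toGod I).hom.app W) := fun W => by
    obtain ⟨W⟩ := W
    rw [AddCommGrpCat.mono_iff_injective]
    intro a b hab
    exact TopCat.Presheaf.section_ext I W a b fun v hv => by
      rw [← gval_toGod I W a v hv, ← gval_toGod I W b v hv, hab]
  have := NatTrans.mono_of_mono_app (toGod I).hom
  exact (sheafToPresheaf _ _).mono_of_mono_map this

variable [Injective I]

/-- A retraction. -/
noncomputable def retr : god I ⟶ I := @Injective.factorThru _ _ _ _ _ _ (𝟙 I) (toGod I) (mono_toGod I)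

lemma toGod_retr : toGod I ≫ retr I = 𝟙 I :=
  @Injective.comp_factorThru _ _ _ _ _ _ (𝟙 I) (toGod I) (mono_toGod I)

variable {T : TopCat.{u}} (t : T ⟶ S)

/-- A germ representing a family near a point, pushed down by the retraction. -/
def IsRep (ψ : ∀ w : T, CohTop.stalk I (t w)) (w : T) (W : Opens T) (V : Opens S)
    (σ : (god I).obj.obj (op V)) : Prop :=
  w ∈ W ∧ Set.InjOn t W ∧ ∃ hV : W ≤ (Opens.map t).obj V, ∀ w' (h : w' ∈ W), gval I V σ (t w') (hV h) = ψ w'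

variable (ho : IsOpenMap t) (hi : ∀ w : T, ∃ W : Opens T, w ∈ W ∧ Set.InjOn t W)

omit [Injective I] in
include ho hi in
theorem exists_isRep (ψ : ∀ w : T, CohTop.stalk I (t w)) (w : T) :
    ∃ W V σ, IsRep I t ψ w W V σ := by
  classical
  obtain ⟨W, hw, hW⟩ := hi w
  let V : Opens S := ⟨t '' W, ho _ W.2⟩
  obtain ⟨σ, hσ⟩ := exists_gval I V (fun v =>
    if h : ∃ w' ∈ W, t w' = v then h.choose_spec.2 ▸ ψ h.choose else 0)
  refine ⟨W, V, σ, hw, hW, fun x hx => ⟨x, hx, rfl⟩, fun w' h => ?_⟩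
  rw [hσ, dif_pos ⟨w', h, rfl⟩]
  have key : ∀ (a : T) (e : t a = t w'), a ∈ W → e ▸ ψ a = ψ w' := fun a e ha => by
    obtain rfl := hW ha h e
    rfl
  exact key _ _ (Exists.choose_spec (p := fun a => a ∈ W ∧ t a = t w') ⟨w', h, rfl⟩).1

omit [Injective I] in
include ho in
theorem isRep_germ_eq {ψ ψ' : ∀ w : T, CohTop.stalk I (t w)} {w : T} {W W' : Opens T} {V V' : Opens S}
    {σ : (god I).obj.obj (op V)} {σ' : (god I).obj.obj (op V')}
    (h : IsRep I t ψ w W V σ) (h' : IsRep I t ψ' w W' V' σ')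
    (W₀ : Opens T) (hw₀ : w ∈ W₀) (he : ∀ x ∈ W₀, ψ x = ψ' x) :
    TopCat.Presheaf.germ (god I).obj V (t w) (h.2.2.1 h.1) σ =
      TopCat.Presheaf.germ (god I).obj V' (t w) (h'.2.2.1 h'.1) σ' := by
  obtain ⟨hw, -, hV, hs⟩ := h
  obtain ⟨hw', -, hV', hs'⟩ := h'
  let V'' : Opens S := ⟨t '' (W ⊓ W' ⊓ W₀ : Opens T), ho _ (W ⊓ W' ⊓ W₀).2⟩
  have hle : V'' ≤ V := by rintro _ ⟨x, hx, rfl⟩; exact hV hx.1.1
  have hle' : V'' ≤ V' := by rintro _ ⟨x, hx, rfl⟩; exact hV' hx.1.2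
  refine TopCat.Presheaf.germ_ext (god I).obj V'' ⟨w, ⟨⟨hw, hw'⟩, hw₀⟩, rfl⟩ (homOfLE hle) (homOfLE hle')
    (gval_ext I fun v hv => ?_)
  rw [gval_res, gval_res]
  obtain ⟨x, hx, rfl⟩ := hv
  rw [hs x hx.1.1, hs' x hx.1.2, he x hx.2]

/-- From an arbitrary family of germs to a local one. -/
noncomputable def lam (ψ : ∀ w : T, CohTop.stalk I (t w)) (w : T) : CohTop.stalk I (t w) :=
  stalkMap (retr I) (t w) (TopCat.Presheaf.germ (god I).obj
    (exists_isRep I t ho hi ψ w).choose_spec.choose (t w)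
    ((exists_isRep I t ho hi ψ w).choose_spec.choose_spec.choose_spec.2.2.1
      (exists_isRep I t ho hi ψ w).choose_spec.choose_spec.choose_spec.1)
    (exists_isRep I t ho hi ψ w).choose_spec.choose_spec.choose)

theorem lam_eq {ψ : ∀ w : T, CohTop.stalk I (t w)} {w : T} {W : Opens T} {V : Opens S}
    {σ : (god I).obj.obj (op V)} (h : IsRep I t ψ w W V σ) :
    lam I t ho hi ψ w = stalkMap (retr I) (t w) (TopCat.Presheaf.germ (god I).obj V (t w) (h.2.2.1 h.1) σ) :=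
  congrArg (stalkMap (retr I) (t w))
    (isRep_germ_eq I t ho (exists_isRep I t ho hi ψ w).choose_spec.choose_spec.choose_spec h ⊤ trivial
      fun _ _ => rfl)

theorem lam_congr {ψ ψ' : ∀ w : T, CohTop.stalk I (t w)} {w : T} (W₀ : Opens T) (hw₀ : w ∈ W₀)
    (he : ∀ x ∈ W₀, ψ x = ψ' x) : lam I t ho hi ψ w = lam I t ho hi ψ' w := by
  obtain ⟨W, V, σ, h⟩ := exists_isRep I t ho hi ψ w
  obtain ⟨W', V', σ', h'⟩ := exists_isRep I t ho hi ψ' w
  rw [lam_eq I t ho hi h, lam_eq I t ho hi h', isRep_germ_eq I t ho h h' W₀ hw₀ he]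

theorem lam_add (ψ ψ' : ∀ w : T, CohTop.stalk I (t w)) (w : T) :
    lam I t ho hi (ψ + ψ') w = lam I t ho hi ψ w + lam I t ho hi ψ' w := by
  obtain ⟨W, V, σ, h⟩ := exists_isRep I t ho hi ψ w
  obtain ⟨W', V', σ', h'⟩ := exists_isRep I t ho hi ψ' w
  obtain ⟨hw, hinj, hV, hs⟩ := h
  obtain ⟨hw', hinj', hV', hs'⟩ := h'
  have h'' : IsRep I t (ψ + ψ') w (W ⊓ W') (V ⊓ V')
      ((god I).obj.map (homOfLE inf_le_left).op σ + (god I).obj.map (homOfLE inf_le_right).op σ') := by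
    refine ⟨⟨hw, hw'⟩, hinj.mono fun x hx => hx.1, fun x hx => ⟨hV hx.1, hV' hx.2⟩, fun x hx => ?_⟩
    have hx' : t x ∈ V ⊓ V' := ⟨hV hx.1, hV' hx.2⟩
    calc gval I (V ⊓ V') _ (t x) hx' = gval I (V ⊓ V') ((god I).obj.map (homOfLE inf_le_left).op σ) (t x) hx' +
          gval I (V ⊓ V') ((god I).obj.map (homOfLE inf_le_right).op σ') (t x) hx' :=
        congrFun (map_add (famSec (dsc S) I ((Opens.map (dsc S)).obj (V ⊓ V'))) _ _) _
      _ = _ := by rw [gval_res, gval_res, hs x hx.1, hs' x hx.2]; rfl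
  rw [lam_eq I t ho hi h'', lam_eq I t ho hi ⟨hw, hinj, hV, hs⟩, lam_eq I t ho hi (W := W') (V := V') (σ := σ')
    ⟨hw', hinj', hV', hs'⟩, map_add, TopCat.Presheaf.germ_res_apply, TopCat.Presheaf.germ_res_apply,
    map_add]

/-- The assignment at a point as a homomorphism. -/
noncomputable def lamHom (w : T) : (∀ w : T, CohTop.stalk I (t w)) →+ CohTop.stalk I (t w) :=
  AddMonoidHom.mk' (fun ψ => lam I t ho hi ψ w) (fun ψ ψ' => lam_add I t ho hi ψ ψ' w)

@[simp] lemma lamHom_apply (w : T) (ψ : ∀ w : T, CohTop.stalk I (t w)) :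
    lamHom I t ho hi w ψ = lam I t ho hi ψ w := rfl

theorem lam_mem (ψ : ∀ w : T, CohTop.stalk I (t w)) (W₁ : Opens T) :
    (fun w : W₁ => lam I t ho hi ψ w.1) ∈ Sec t I W₁ := by
  intro w
  obtain ⟨W, V, σ, h⟩ := exists_isRep I t ho hi ψ w.1
  obtain ⟨hw, hinj, hV, hs⟩ := h
  refine ⟨V, (retr I).hom.app (op V) σ, W, hw, hV, fun w' h' => ?_⟩
  exact (lam_eq I t ho hi ⟨h', hinj, hV, hs⟩).trans (stalkMap_germ (retr I) _ _ σ)

theorem lam_self {W₁ : Opens T} {φ : ∀ w : W₁, CohTop.stalk I (t w.1)} (hφ : φ ∈ Sec t I W₁)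
    (ψ : ∀ w : T, CohTop.stalk I (t w)) (he : ∀ w : W₁, ψ w.1 = φ w) (w : W₁) :
    lam I t ho hi ψ w.1 = φ w := by
  obtain ⟨V, s, W', hw', hV, hs⟩ := hφ w
  obtain ⟨W, hw, hW⟩ := hi w.1
  have h : IsRep I t ψ w.1 (W ⊓ W' ⊓ W₁) V ((toGod I).hom.app (op V) s) := by
    refine ⟨⟨⟨hw, hw'⟩, w.2⟩, hW.mono fun x hx => hx.1.1, fun x hx => hV hx.1.2, fun x hx => ?_⟩
    rw [gval_toGod, ← hs ⟨x, hx.2⟩ hx.1.2]
    exact (he ⟨x, hx.2⟩).symm
  rw [lam_eq I t ho hi h, stalkMap_germ, hs w hw']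
  exact congrArg (TopCat.Presheaf.germ I.obj V (t w.1) _)
    (congrArg (fun k => k.hom.app (op V) s) (toGod_retr I))

variable {T' : TopCat.{u}} (g : T' ⟶ T) (ho' : IsOpenMap (g ≫ t))
  (hi' : ∀ w : T', ∃ W : Opens T', w ∈ W ∧ Set.InjOn (g ≫ t) W)

/-- Naturality for maps over the base. -/
theorem lam_comp (ψ : ∀ w : T, CohTop.stalk I (t w)) (x : T') :
    lam I (g ≫ t) ho' hi' (fun y => ψ (g y)) x = lam I t ho hi ψ (g x) := by
  obtain ⟨W, V, σ, h⟩ := exists_isRep I t ho hi ψ (g x)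
  obtain ⟨W', hx', hW'⟩ := hi' x
  obtain ⟨hw, hinj, hV, hs⟩ := h
  have h' : IsRep I (g ≫ t) (fun y => ψ (g y)) x (W' ⊓ (Opens.map g).obj W) V σ :=
    ⟨⟨hx', hw⟩, hW'.mono fun y hy => hy.1, fun y hy => hV hy.2, fun y hy => hs (g y) hy.2⟩
  exact (lam_eq I (g ≫ t) ho' hi' h').trans (lam_eq I t ho hi ⟨hw, hinj, hV, hs⟩).symm

end GrothLib.DescSS19
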