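import Groth.Agent.Lib.DescSS19.Lam
import Mathlib.Topology.Category.TopCat.Limits.Products
import Mathlib.CategoryTheory.Limits.Shapes.WidePullbacks

/-! # The nerve of a local homeomorphism -/

set_option autoImplicit false
set_option backward.isDefEq.respectTransparency false
set_option linter.unusedVariables false
universe u

open CategoryTheory CategoryTheory.Limits TopologicalSpace Opposite

namespace GrothLib.DescSS19

variable {X S : TopCat.{u}} (f : X ⟶ S) (hf : IsLocalHomeomorph f)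

include hf in
theorem injOn_nvBase (n : ℕ) (p : Nv f n) :
    ∃ W : Opens (nvTop f n), p ∈ W ∧ Set.InjOn (nvBase f n) W := by
  choose e he hef using fun i => hf (p.1.2 i)
  refine ⟨⟨{q | ∀ i, q.1.2 i ∈ (e i).source}, ?_⟩, he, fun q hq q' hq' h => ?_⟩
  · simp only [Set.ofPred_forall]
    exact isOpen_iInter_of_finite fun i =>
      (e i).open_source.preimage ((continuous_apply i).comp (continuous_snd.comp continuous_subtype_val))
  · change q.1.1 = q'.1.1 at h
    refine Subtype.ext (Prod.ext h (funext fun i => (e i).injOn (hq i) (hq' i) ?_))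
    rw [← hef i, q.2 i, q'.2 i, h]

include hf in
theorem isOpenMap_nvBase (n : ℕ) : IsOpenMap (nvBase f n) := by
  intro O hO
  rw [isOpen_iff_mem_nhds]
  rintro _ ⟨p, hp, rfl⟩
  choose e he hef using fun i => hf (p.1.2 i)
  let V : Set S := ⋂ i, (e i).target
  have hVo : IsOpen V := isOpen_iInter_of_finite fun i => (e i).open_target
  have hfe : ∀ i (v : S), v ∈ (e i).target → f ((e i).symm v) = v := fun i v hv =>
    (congrFun (hef i) _).trans ((e i).right_inv hv)
  let σ : V → Nv f n := fun v => ⟨(v.1, fun i => (e i).symm v.1), fun i => hfe i v.1 (Set.mem_iInter.1 v.2 i)⟩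
  have hσ : Continuous σ := Continuous.subtype_mk (continuous_subtype_val.prodMk (continuous_pi fun i =>
    ((e i).symm.continuousOn.comp_continuous continuous_subtype_val fun v => Set.mem_iInter.1 v.2 i))) _
  have hpe : ∀ i, e i (p.1.2 i) = p.1.1 := fun i => (congrFun (hef i) _).symm.trans (p.2 i)
  have hpV : p.1.1 ∈ V := Set.mem_iInter.2 fun i => by
    rw [← hpe i]; exact (e i).map_source (he i)
  have hσp : σ ⟨p.1.1, hpV⟩ = p := Subtype.ext (Prod.ext rfl (funext fun i => by
    change (e i).symm p.1.1 = p.1.2 i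
    rw [← hpe i, (e i).left_inv (he i)]))
  have hop : IsOpen (Subtype.val '' (σ ⁻¹' O) : Set S) :=
    hVo.isOpenMap_subtype_val _ (hO.preimage hσ)
  refine Filter.mem_of_superset (hop.mem_nhds ⟨⟨p.1.1, hpV⟩, by rw [Set.mem_preimage, hσp]; exact hp, rfl⟩) ?_
  rintro _ ⟨v, hv, rfl⟩
  exact ⟨σ v, hv, rfl⟩

variable {F : CohTop.Ab S}

/-- Evaluation of a global cochain at a tuple. -/
noncomputable abbrev tval {n : ℕ} (φ : (cx f F ⊤).X n) (p : Nv f n) : CohTop.stalk F (nvBase f n p) :=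
  val f F φ ⟨p, trivial⟩

lemma tval_ext {n : ℕ} {φ ψ : (cx f F ⊤).X n} (h : ∀ p, tval f φ p = tval f ψ p) : φ = ψ :=
  cx_ext f F fun w => h w.1

lemma tval_mem {n : ℕ} (φ : (cx f F ⊤).X n) :
    (fun w : nvOver f n (⊤ : Opens S) => tval f φ w.1) ∈ Sec (nvBase f n) F (nvOver f n ⊤) :=
  Subtype.prop (p := fun ψ => ψ ∈ Coch f F n ⊤) φ

/-- A tuple with one more point in front. -/
def consNv {n : ℕ} (x : X) (p : Nv f n) (h : f x = p.1.1) : Nv f (n + 1) :=
  ⟨(p.1.1, Fin.cons x p.1.2), fun i => Fin.cases h (fun j => p.2 j) i⟩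

lemma reidx_succAbove_zero_cons {n : ℕ} (x : X) (p : Nv f n) (h : f x = p.1.1) :
    reidx f (Fin.succAbove 0) (consNv f x p h) = p := rfl

lemma reidx_succAbove_succ_cons {n : ℕ} (x : X) (p : Nv f (n + 1)) (h : f x = p.1.1) (i : Fin (n + 2)) :
    reidx f i.succ.succAbove (consNv f x p h) = consNv f x (reidx f i.succAbove p) h := by
  refine Subtype.ext (Prod.ext rfl (funext fun j => ?_))
  refine Fin.cases ?_ (fun k => ?_) j
  · change (Fin.cons x p.1.2 : Fin (n + 3) → X) (i.succ.succAbove 0) = x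
    rw [Fin.succ_succAbove_zero]
    rfl
  · change (Fin.cons x p.1.2 : Fin (n + 3) → X) (i.succ.succAbove k.succ) = p.1.2 (i.succAbove k)
    rw [Fin.succ_succAbove_succ, Fin.cons_succ]

variable {f} in
/-- Transport between equal tuples. -/
lemma tval_congr {n : ℕ} (φ : (cx f F ⊤).X n) {p q : Nv f n} (h : p = q) :
    HEq (tval f φ p) (tval f φ q) := by subst h; rfl

/-- The contraction with respect to a choice of preimages. -/
noncomputable def contr (c : S → X) (hc : ∀ s, f (c s) = s) {n : ℕ} (φ : (cx f F ⊤).X (n + 1))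
    (p : Nv f n) : CohTop.stalk F (nvBase f n p) :=
  tval f φ (consNv f (c p.1.1) p (hc _))

theorem sum_contr (c : S → X) (hc : ∀ s, f (c s) = s) {n : ℕ} (φ : (cx f F ⊤).X (n + 1))
    (hφ : (cx f F ⊤).d (n + 1) (n + 2) φ = 0) (p : Nv f (n + 1)) :
    ∑ i : Fin (n + 2), ((-1 : ℤ) ^ (i : ℕ)) •
      (show CohTop.stalk F (nvBase f (n + 1) p) from contr f c hc φ (reidx f i.succAbove p)) =
      tval f φ p := by
  set q := consNv f (c p.1.1) p (hc _) with hq
  have h := val_d f F φ ⟨q, trivial⟩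
  rw [hφ] at h
  rw [Fin.sum_univ_succ] at h
  have e : ∀ i : Fin (n + 2),
      (show CohTop.stalk F (nvBase f (n + 1) p) from tval f φ (reidx f i.succ.succAbove q)) =
        (show CohTop.stalk F (nvBase f (n + 1) p) from contr f c hc φ (reidx f i.succAbove p)) :=
    fun i => eq_of_heq (tval_congr φ (reidx_succAbove_succ_cons f (c p.1.1) p (hc _) i))
  have h' : (0 : CohTop.stalk F (nvBase f (n + 1) p)) = tval f φ p +
      ∑ i : Fin (n + 2), ((-1 : ℤ) ^ ((i : ℕ) + 1)) •
        (show CohTop.stalk F (nvBase f (n + 1) p) from contr f c hc φ (reidx f i.succAbove p)) := by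
    refine Eq.trans ?_ (h.trans (congrArg₂ (· + ·) ?_ (Finset.sum_congr rfl fun i _ => ?_)))
    · exact (rfl : (0 : CohTop.stalk F (nvBase f (n + 2) q)) = _)
    · simp only [Fin.val_zero, pow_zero, one_smul]
      exact eq_of_heq (tval_congr φ (reidx_succAbove_zero_cons f (c p.1.1) p (hc _)))
    · rw [Fin.val_succ, ← e i]
  simp only [pow_succ, mul_neg, mul_one, neg_smul, Finset.sum_neg_distrib, ← sub_eq_add_neg] at h'
  exact (sub_eq_zero.1 h'.symm).symm

variable (I : CohTop.Ab S) [Injective I]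

omit [Injective I] in
lemma exactAt_of_forall (K : CochainComplex AddCommGrpCat.{u} ℕ) (n : ℕ)
    (h : ∀ φ, K.d (n + 1) (n + 2) φ = 0 → ∃ x, K.d n (n + 1) x = φ) : K.ExactAt (n + 1) := by
  rw [HomologicalComplex.exactAt_iff' _ n (n + 1) (n + 2) (by simp) (by simp), ShortComplex.ab_exact_iff]
  exact h

include hf in
theorem exact_cx_injective (hs : Function.Surjective f) (n : ℕ) :
    IsZero ((cx f I ⊤).homology (n + 1)) := by
  rw [← HomologicalComplex.exactAt_iff_isZero_homology]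
  refine exactAt_of_forall (cx f I ⊤) n fun φ hφ => ?_
  choose c hc using hs
  let ψ : ∀ p : Nv f n, CohTop.stalk I (nvBase f n p) := contr f c hc φ
  let L := lam I (nvBase f n) (isOpenMap_nvBase f hf n) (injOn_nvBase f hf n) ψ
  let χ : (cx f I ⊤).X n :=
    (⟨fun w => L w.1, lam_mem I (nvBase f n) (isOpenMap_nvBase f hf n) (injOn_nvBase f hf n) ψ _⟩ : Coch f I n ⊤)
  refine ⟨χ, ?_⟩
  refine cx_ext (n := n + 1) (V := ⊤) f I fun w => ?_
  obtain ⟨p, hp⟩ := w
  rw [val_d]
  let L' := lam I (nvBase f (n + 1)) (isOpenMap_nvBase f hf (n + 1)) (injOn_nvBase f hf (n + 1))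
  let δ : Fin (n + 2) → ∀ q : Nv f (n + 1), CohTop.stalk I (nvBase f (n + 1) q) :=
    fun i q => ψ (reidx f i.succAbove q)
  have key : ∀ i : Fin (n + 2), L' (δ i) p = L (reidx f i.succAbove p) := fun i =>
    lam_comp I (nvBase f n) (isOpenMap_nvBase f hf n) (injOn_nvBase f hf n)
      (T' := nvTop f (n + 1)) (TopCat.ofHom ⟨reidx f i.succAbove, continuous_reidx f _⟩)
      (isOpenMap_nvBase f hf (n + 1)) (injOn_nvBase f hf (n + 1)) ψ p
  let Φ := lamHom I (nvBase f (n + 1)) (isOpenMap_nvBase f hf (n + 1)) (injOn_nvBase f hf (n + 1)) p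
  have hsum : Φ (∑ i : Fin (n + 2), ((-1 : ℤ) ^ (i : ℕ)) • δ i) = tval f φ p := by
    have : (∑ i : Fin (n + 2), ((-1 : ℤ) ^ (i : ℕ)) • δ i) = fun q => tval f φ q := funext fun q => by
      rw [Finset.sum_apply]
      exact sum_contr f c hc φ hφ q
    rw [this]
    exact lam_self I (nvBase f (n + 1)) (isOpenMap_nvBase f hf (n + 1)) (injOn_nvBase f hf (n + 1))
      (tval_mem f φ) (fun q => tval f φ q) (fun w => rfl) ⟨p, hp⟩
  rw [map_sum] at hsum
  refine Eq.trans (Finset.sum_congr rfl fun i _ => ?_) hsum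
  rw [map_zsmul]
  exact congrArg (((-1 : ℤ) ^ (i : ℕ)) • ·) (key i).symm

/-- Inverse images of injective sheaves along open locally injective maps are flasque. -/
theorem isFlasque_pull {T : TopCat.{u}} (t : T ⟶ S) (ho : IsOpenMap t)
    (hi : ∀ w : T, ∃ W : Opens T, w ∈ W ∧ Set.InjOn t W) :
    TopCat.Sheaf.IsFlasque ((CohTop.pull t).obj I) := by
  classical
  refine ⟨fun {U V} i => (AddCommGrpCat.epi_iff_surjective _).2 fun σ => ?_⟩
  obtain ⟨U⟩ := U
  obtain ⟨V⟩ := V
  have hle : V ≤ U := i.unop.le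
  let ψ : ∀ w : T, CohTop.stalk I (t w) := fun w => if h : w ∈ V then famSec t I V σ ⟨w, h⟩ else 0
  obtain ⟨τ, hτ⟩ := exists_famSec_eq t I U (fun w => lam I t ho hi ψ w.1) (lam_mem I t ho hi ψ U)
  refine ⟨τ, famSec_injective t I V (funext fun w => ?_)⟩
  refine ((famSec_res t I hle τ w).trans (congrFun hτ _)).trans ?_
  exact lam_self I t ho hi (famSec_mem t I V σ) ψ (fun w' => dif_pos w'.2) w

end GrothLib.DescSS19
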