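import Groth.Agent.Lib.GrothSS.Degenerate

/-! # Putting a first page of rows in front of a second page spectral sequence -/

set_option autoImplicit false
universe v u

open CategoryTheory CategoryTheory.Limits

namespace GrothLib.DescSS19

open GrothLib.GrothSS

variable {C : Type u} [Category.{v} C] [Abelian C] (E : E₂CohomologicalSpectralSequence C)
  (K : ℤ → CochainComplex C ℤ)

/-- The pages. -/
noncomputable def prePage (r : ℤ) (hr : 1 ≤ r) :
    HomologicalComplex C (ComplexShape.up' ((⟨r, 1 - r⟩ : ℤ × ℤ))) :=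
  if h : r = 1 then h ▸ rowsPage K else E.page r (by omega)

theorem prePage_one : prePage E K 1 le_rfl = rowsPage K := dif_pos rfl

theorem prePage_of_ne {r : ℤ} (hr : 1 ≤ r) (h : r ≠ 1) :
    prePage E K r hr = E.page r (by omega) := dif_neg h

variable (e : ∀ p q : ℤ, (E.page 2 le_rfl).X (p, q) ≅ (K q).homology p)

/-- The spectral sequence starting at page one. -/
noncomputable def preSS : CohomologicalSpectralSequence C 1 where
  page r hr := prePage E K r hr
  iso r r' pq hrr' hr :=
    if h : r = 1 then
      (HomologicalComplex.homologyFunctor _ _ pq).mapIso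
          (eqToIso (show prePage E K r hr = h ▸ rowsPage K from dif_pos h)) ≪≫
        (show (h ▸ rowsPage K : HomologicalComplex C (ComplexShape.up' ((⟨r, 1 - r⟩ : ℤ × ℤ)))).homology pq ≅
            (E.page 2 le_rfl).X pq by
          subst h
          exact rowsPageHomology K pq.1 pq.2 ≪≫ (e pq.1 pq.2).symm) ≪≫
        eqToIso (by
          subst h; subst hrr'
          exact (congrArg (fun P => HomologicalComplex.X P pq) (prePage_of_ne E K (by omega) (by omega))).symm)
    else
      (HomologicalComplex.homologyFunctor _ _ pq).mapIso (eqToIso (prePage_of_ne E K hr h)) ≪≫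
        E.iso r r' pq hrr' (by omega) ≪≫
        eqToIso (congrArg (fun P => HomologicalComplex.X P pq)
          (prePage_of_ne E K (r := r') (by omega) (by omega))).symm

lemma stationaryAt_pre {pq : ℤ × ℤ} {r : ℤ} (h : SpSeq.StationaryAt E pq r) :
    SpSeq.StationaryAt (preSS E K e) pq r := by
  refine ⟨by have := h.1; omega, fun r' h₀ hr => ?_⟩
  have h2 := h.1
  change (prePage E K r' h₀).d _ _ = 0 ∧ (prePage E K r' h₀).d _ _ = 0
  rw [prePage_of_ne E K h₀ (by omega)]
  exact h.2 r' (by omega) hr

variable {H : ℤ → C} (a : SpSeq.Abutment E H)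

/-- The same abutment. -/
noncomputable def preAbutment : SpSeq.Abutment (preSS E K e) H where
  fil := a.fil
  anti := a.anti
  rk := a.rk
  stat pq := stationaryAt_pre E K e (a.stat pq)
  β pq := eqToIso (congrArg (fun P => HomologicalComplex.X P pq)
      (prePage_of_ne E K (r := a.rk pq) (by have := (a.stat pq).1; omega)
        (by have := (a.stat pq).1; omega))) ≪≫ a.β pq

include e in
/-- Existence with prescribed first page. -/
theorem exists_prepend (ha : ∀ n, a.IsFinite n) (E₁ : ℤ → ℤ → C)
    (hE : ∀ p q : ℤ, Nonempty ((K q).X p ≅ E₁ p q))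
    (hb : ∀ p q : ℤ, p < 0 ∨ q < 0 → IsZero ((K q).X p)) :
    ∃ (E' : CohomologicalSpectralSequence C 1) (a : SpSeq.Abutment E' H),
      (∀ n, a.IsFinite n) ∧ SpSeq.IsBounded E' ∧
      ∀ p q : ℤ, Nonempty ((E'.page 1 le_rfl).X (p, q) ≅ E₁ p q) := by
  refine ⟨preSS E K e, preAbutment E K e a, fun n => ha n, fun n => ?_,
    fun p q => ⟨eqToIso (congrArg (fun P => HomologicalComplex.X P (p, q)) (prePage_one E K)) ≪≫
      (hE p q).some⟩⟩
  refine (Set.finite_Icc (0 : ℤ) n).subset fun p hp => ?_
  by_contra hc
  refine hp ((hb p (n - p) ?_).of_iso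
    (eqToIso (congrArg (fun P => HomologicalComplex.X P (p, n - p)) (prePage_one E K))))
  rw [Set.mem_Icc] at hc
  omega

end GrothLib.DescSS19
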