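import Groth.Agent.Lib.GrothSS.Main
import Groth.Agent.Lib.GrothSS.Universal
import Groth.Agent.Lib.SheafCoh.DerivedComp
import Groth.Agent.Lib.DescSS19.Prepend
import Groth.Agent.Lib.DescSS19.CxInj

/-! # The first page spectral sequence of a functor into complexes -/

set_option autoImplicit false
universe v v' u u'

open CategoryTheory CategoryTheory.Limits
open scoped ZeroObject

namespace GrothLib.DescSS19

open GrothLib GrothLib.GrothSS

variable {B : Type u'} [Category.{v'} B] [Abelian B] [EnoughInjectives B]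
  [EnoughInjectives (CochainComplex B ℕ)]

/-- Cohomology in degree zero. -/
noncomputable abbrev h0 (B : Type u') [Category.{v'} B] [Abelian B] : CochainComplex B ℕ ⥤ B :=
  HomologicalComplex.homologyFunctor B (ComplexShape.up ℕ) 0

omit [EnoughInjectives B] [EnoughInjectives (CochainComplex B ℕ)] in
theorem preservesFiniteLimits_h0 : PreservesFiniteLimits (h0 B) :=
  preservesFiniteLimits_cohomFun_zero (𝟭 (CochainComplex B ℕ)) (fun _ hS => hS)

/-- Cohomology is derived from degree zero. -/
theorem nonempty_rightDerived_h0_iso (K : CochainComplex B ℕ) (p : ℕ) :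
    Nonempty (((h0 B).rightDerived p).obj K ≅ K.homology p) :=
  nonempty_rightDerived_cohomFun_iso (𝟭 (CochainComplex B ℕ)) (fun _ hS => hS)
    (fun I _ n => (HomologicalComplex.exactAt_iff_isZero_homology _ _).1 (exactAt_of_injective I n)) p K

variable {A : Type u} [Category.{v} A] [Abelian A] [HasInjectiveResolutions A]
  (T : A ⥤ CochainComplex B ℕ) [T.Additive]

/-- The spectral sequence of a functor to complexes which resolves on injective objects. -/
theorem exists_of_functor
    (hT : ∀ I : A, Injective I → ∀ n : ℕ, IsZero ((T.obj I).homology (n + 1)))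
    (X : A) (E₁ : ℕ → ℕ → B) (H : ℕ → B) (Z : B) (hZ : IsZero Z)
    (hH : ∀ n : ℕ, Nonempty (H n ≅ ((T ⋙ h0 B).rightDerived n).obj X))
    (hE : ∀ p q : ℕ, Nonempty (E₁ p q ≅
      ((T ⋙ HomologicalComplex.eval B (ComplexShape.up ℕ) p).rightDerived q).obj X)) :
    ∃ (E : CohomologicalSpectralSequence B 1)
      (a : SpSeq.Abutment E (fun n : ℤ => if 0 ≤ n then H n.toNat else Z)),
      (∀ n, a.IsFinite n) ∧ SpSeq.IsBounded E ∧
      ∀ p q : ℤ, Nonempty ((E.page 1 le_rfl).X (p, q) ≅
        (if 0 ≤ p ∧ 0 ≤ q then E₁ p.toNat q.toNat else Z)) := by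
  have := preservesFiniteLimits_h0 (B := B)
  let Q : ℕ → CochainComplex B ℕ := fun q => (T.rightDerived q).obj X
  obtain ⟨E, a, ha, -, hE₂⟩ := exists_grothendieck (h0 B) T
    (fun I hI q hq => by
      obtain ⟨m, rfl⟩ : ∃ m, q = m + 1 := ⟨q - 1, by omega⟩
      exact (hT I hI m).of_iso (nonempty_rightDerived_h0_iso _ _).some)
    X (fun p q => (Q q).homology p) H Z hZ hH
    (fun p q => ⟨(nonempty_rightDerived_h0_iso (Q q) p).some.symm⟩)
  have hz0 : ∀ p : ℤ, IsZero ((0 : CochainComplex B ℤ).X p) := fun p =>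
    (HomologicalComplex.eval B (ComplexShape.up ℤ) p).map_isZero (isZero_zero _)
  have hneg : ∀ (q : ℕ) (p : ℤ), p < 0 → IsZero (((Q q).extend ComplexShape.embeddingUpNat).X p) :=
    fun q p hp => (Q q).isZero_extend_X _ p (fun k hk => by simp at hk; omega)
  have he : ∀ p q : ℤ, Nonempty ((E.page 2 le_rfl).X (p, q) ≅ (intRow Q q).homology p) := by
    intro p q
    refine ⟨(hE₂ p q).some ≪≫ Nonempty.some ?_⟩
    rcases q with q | q
    · by_cases h : 0 ≤ p
      · obtain ⟨m, rfl⟩ : ∃ m : ℕ, p = (m : ℤ) := ⟨p.toNat, by omega⟩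
        rw [if_pos ⟨h, Int.natCast_nonneg q⟩]
        exact ⟨(HomologicalComplex.extendHomologyIso (Q q) ComplexShape.embeddingUpNat rfl).symm⟩
      · rw [if_neg (by omega)]
        exact ⟨hZ.iso ((HomologicalComplex.exactAt_iff_isZero_homology _ _).1
          (ShortComplex.exact_of_isZero_X₂ _ (hneg q p (by omega))))⟩
    · rw [if_neg (by omega)]
      exact ⟨hZ.iso ((HomologicalComplex.exactAt_iff_isZero_homology _ _).1
        (ShortComplex.exact_of_isZero_X₂ _ (hz0 p)))⟩
  refine exists_prepend E (intRow Q) (fun p q => (he p q).some) a ha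
    (fun p q : ℤ => if 0 ≤ p ∧ 0 ≤ q then E₁ p.toNat q.toNat else Z) (fun p q => ?_) (fun p q h => ?_)
  · rcases q with q | q
    · by_cases h : 0 ≤ p
      · obtain ⟨m, rfl⟩ : ∃ m : ℕ, p = (m : ℤ) := ⟨p.toNat, by omega⟩
        rw [if_pos ⟨h, Int.natCast_nonneg q⟩]
        exact ⟨(Q q).extendXIso ComplexShape.embeddingUpNat (i := m) rfl ≪≫
          (SheafCoh.rightDerivedPostExactIso _ T (HomologicalComplex.eval B (ComplexShape.up ℕ) m)
            (Iso.refl _) X q).symm ≪≫ (hE m q).some.symm⟩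
      · rw [if_neg (by omega)]
        exact ⟨(hneg q p (by omega)).iso hZ⟩
    · rw [if_neg (by omega)]
      exact ⟨(hz0 p).iso hZ⟩
  · rcases q with q | q
    · exact hneg q p (h.resolve_right (not_lt.2 (Int.natCast_nonneg q)))
    · exact hz0 p

end GrothLib.DescSS19
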