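import Groth.Agent.Lib.DescSS19.LocHomeo
import Groth.Agent.Lib.DescSS19.Main
import Groth.Agent.Lib.GrothSS.Site
import Groth.Agent.Lib.SheafCoh.Top
import Groth.Agent.Lib.SheafCoh.PushInj
import Groth.Agent.Lib.RDerLES.CompAcyclic
import Mathlib.CategoryTheory.Abelian.GrothendieckCategory.EnoughInjectives
import Mathlib.Algebra.Homology.GrothendieckAbelian

/-! # The descent spectral sequence of a surjective local homeomorphism -/

set_option autoImplicit false
set_option backward.isDefEq.respectTransparency false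
set_option linter.unusedVariables false
universe u

open CategoryTheory CategoryTheory.Limits TopologicalSpace Opposite

namespace GrothLib.DescSS19

open GrothLib

variable {X S : TopCat.{u}} (f : X ⟶ S)

lemma stalkMap_add {F F' : CohTop.Ab S} (g h : F ⟶ F') (x : S) (a : CohTop.stalk F x) :
    stalkMap (g + h) x a = stalkMap g x a + stalkMap h x a := by
  obtain ⟨U, hU, s, rfl⟩ := TopCat.Presheaf.exists_germ_eq F.obj a
  rw [stalkMap_germ, stalkMap_germ, stalkMap_germ, ← map_add]
  rfl

instance (V : Opens S) : (cxFun f V).Additive where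
  map_add {F F' g h} := HomologicalComplex.hom_ext _ _ fun n => ConcreteCategory.hom_ext _ _ fun φ =>
    cx_ext f F' fun w => by
      change stalkMap (g + h) (nvBase f n w.1) (val f F φ w) =
        stalkMap g (nvBase f n w.1) (val f F φ w) + stalkMap h (nvBase f n w.1) (val f F φ w)
      exact stalkMap_add g h _ (val f F φ w)

/-- Sections over the whole space. -/
noncomputable abbrev secTop (S : TopCat.{u}) : CohTop.Ab S ⥤ AddCommGrpCat.{u} :=
  GrothSS.secAt (Opens.grothendieckTopology S) (⊤ : Opens S)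

variable (F : CohTop.Ab S)

/-- A section as a cochain of degree zero. -/
noncomputable def augHom : (secTop S).obj F ⟶ (cx f F ⊤).X 0 :=
  AddCommGrpCat.ofHom
    { toFun := fun s => (⟨fun w => TopCat.Presheaf.germ F.obj ⊤ (nvBase f 0 w.1) trivial s,
        fun w => ⟨⊤, s, ⊤, trivial, fun _ _ => trivial, fun _ _ => rfl⟩⟩ : Coch f F 0 ⊤)
      map_zero' := Subtype.ext (funext fun w => map_zero _)
      map_add' := fun a b => Subtype.ext (funext fun w => map_add _ _ _) }

lemma tval_augHom (s : (secTop S).obj F) (p : Nv f 0) :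
    tval f (augHom f F s) p = TopCat.Presheaf.germ F.obj ⊤ (nvBase f 0 p) trivial s := rfl

lemma augHom_d : augHom f F ≫ (cx f F ⊤).d 0 1 = 0 := by
  refine ConcreteCategory.hom_ext _ _ fun s => cx_ext f F fun w => ?_
  refine (val_d f F (augHom f F s) w).trans ?_
  rw [Fin.sum_univ_two]
  simp only [Fin.val_zero, pow_zero, Fin.val_one, pow_one, one_smul, neg_smul]
  exact add_neg_cancel (TopCat.Presheaf.germ F.obj ⊤ (nvBase f 1 w.1) trivial s)

/-- Sections map to the cycles. -/
noncomputable def augCyc : (secTop S).obj F ⟶ (cx f F ⊤).cycles 0 :=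
  (cx f F ⊤).liftCycles (augHom f F) 1 (by simp) (augHom_d f F)

lemma exists_section_of_locally (ψ : ∀ v : S, CohTop.stalk F v)
    (h : ∀ v, ∃ (U : Opens S) (_ : v ∈ U) (s : F.obj.obj (op U)),
      ∀ x (hx : x ∈ U), ψ x = TopCat.Presheaf.germ F.obj U x hx s) :
    ∃ s : F.obj.obj (op (⊤ : Opens S)), ∀ v, TopCat.Presheaf.germ F.obj ⊤ v trivial s = ψ v := by
  choose U hU s hs using h
  obtain ⟨σ, hσ, -⟩ := TopCat.Sheaf.existsUnique_gluing' F U ⊤ (fun v => homOfLE le_top)
    (fun x _ => Opens.mem_iSup.2 ⟨x, hU x⟩) s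
    (fun a b => TopCat.Presheaf.section_ext F _ _ _ fun x hx =>
      (TopCat.Presheaf.germ_res_apply F.obj _ x hx (s a)).trans
        ((hs a x hx.1).symm.trans ((hs b x hx.2).trans
          (TopCat.Presheaf.germ_res_apply F.obj _ x hx (s b)).symm)))
  refine ⟨σ, fun v => (Eq.trans ?_ (hs v v (hU v)).symm)⟩
  rw [← hσ v, TopCat.Presheaf.germ_res_apply]

variable (hf : IsLocalHomeomorph f) (hs : Function.Surjective f)

include hf hs in
theorem isIso_augCyc : IsIso (augCyc f F) := by
  have hl : ∀ s, (cx f F ⊤).iCycles 0 (augCyc f F s) = augHom f F s := fun s =>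
    ConcreteCategory.congr_hom ((cx f F ⊤).liftCycles_i _ _ _ _) s
  have hi : Function.Injective ((cx f F ⊤).iCycles 0) := (AddCommGrpCat.mono_iff_injective _).1 inferInstance
  choose c hc using hs
  let pt : S → Nv f 0 := fun v => ⟨(v, fun _ => c v), fun _ => hc v⟩
  rw [ConcreteCategory.isIso_iff_bijective]
  refine ⟨fun a b hab => TopCat.Presheaf.section_ext F ⊤ a b fun v _ => ?_, fun z => ?_⟩
  · have h := congrArg (fun φ => tval f φ (pt v)) ((hl a).symm.trans ((congrArg _ hab).trans (hl b)))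
    exact h
  · let φ := (cx f F ⊤).iCycles 0 z
    have hd : (cx f F ⊤).d 0 1 φ = 0 := ConcreteCategory.congr_hom ((cx f F ⊤).iCycles_d 0 1) z
    have hcoh : ∀ q : Nv f 1,
        (show CohTop.stalk F (nvBase f 1 q) from tval f φ (reidx f (Fin.succAbove 0) q)) =
          (show CohTop.stalk F (nvBase f 1 q) from tval f φ (reidx f (Fin.succAbove 1) q)) := fun q => by
      have h := val_d f F φ ⟨q, trivial⟩
      rw [hd, Fin.sum_univ_two] at h
      simp only [Fin.val_zero, pow_zero, Fin.val_one, pow_one, one_smul, neg_smul] at h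
      exact add_neg_eq_zero.1 (Eq.trans h.symm rfl)
    have hall : ∀ p : Nv f 0, tval f φ (pt p.1.1) = tval f φ p := fun p => by
      let q : Nv f 1 := ⟨(p.1.1, Fin.cons (p.1.2 0) fun _ => c p.1.1), fun i => Fin.cases (p.2 0) (fun _ => hc _) i⟩
      have h0 : reidx f (Fin.succAbove 0) q = pt p.1.1 := rfl
      have h1 : reidx f (Fin.succAbove 1) q = p := Subtype.ext (Prod.ext rfl (funext fun j => by
        obtain rfl : j = 0 := Fin.fin_one_eq_zero j
        rfl))
      exact eq_of_heq (((tval_congr φ h0).symm.trans (heq_of_eq (hcoh q))).trans (tval_congr φ h1))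
    obtain ⟨s, hs'⟩ := exists_section_of_locally F (fun v => tval f φ (pt v)) (fun v => by
      obtain ⟨U, σ, W', hW', hU, hσ⟩ := tval_mem f φ ⟨pt v, trivial⟩
      refine ⟨U ⊓ ⟨nvBase f 0 '' W', isOpenMap_nvBase f hf 0 _ W'.2⟩, ⟨hU hW', pt v, hW', rfl⟩,
        F.obj.map (homOfLE inf_le_left).op σ, fun x hx => ?_⟩
      obtain ⟨p, hp, rfl⟩ := hx.2
      rw [TopCat.Presheaf.germ_res_apply]
      exact (hall p).trans (hσ ⟨p, trivial⟩ hp))
    refine ⟨s, hi ((hl s).trans (tval_ext f fun p => ?_))⟩
    exact (hs' p.1.1).trans (hall p)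

/-- Degree zero cohomology of the complex of cochains is the global sections. -/
noncomputable def h0SecIso : secTop S ≅ cxFun f ⊤ ⋙ h0 AddCommGrpCat.{u} :=
  haveI : ∀ F : CohTop.Ab S, IsIso (augCyc f F) := fun F => isIso_augCyc f F hf hs
  NatIso.ofComponents (fun F => asIso (augCyc f F) ≪≫ CochainComplex.isoHomologyπ₀ (cx f F ⊤))
    (fun {F F'} g => by
      have h1 : (secTop S).map g ≫ augCyc f F' =
          augCyc f F ≫ HomologicalComplex.cyclesMap ((cxFun f ⊤).map g) 0 := by
        rw [← cancel_mono ((cx f F' ⊤).iCycles 0), Category.assoc, Category.assoc]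
        erw [HomologicalComplex.cyclesMap_i, HomologicalComplex.liftCycles_i]
        erw [HomologicalComplex.liftCycles_i_assoc]
        exact ConcreteCategory.hom_ext _ _ fun s => cx_ext f F' fun w => by
          obtain ⟨p, hp⟩ := w
          change tval f (augHom f F' (g.hom.app (op ⊤) s)) p = stalkMap g _ (tval f (augHom f F s) p)
          exact (stalkMap_germ (F := F) g (U := ⊤) (nvBase f 0 p) trivial s).symm
      simp only [Iso.trans_hom, asIso_hom, Category.assoc]
      erw [reassoc_of% h1]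
      exact congrArg (augCyc f F ≫ ·) (HomologicalComplex.homologyπ_naturality ((cxFun f ⊤).map g) 0).symm)

variable {T : TopCat.{u}} {n : ℕ} (e : T ≅ nvTop f n)

/-- Reindexing cochains along a map to the space of tuples. -/
noncomputable def rc : Coch f F n ⊤ →+ Sec (e.hom ≫ nvBase f n) F ⊤ where
  toFun ψ := ⟨fun w => ψ.1 ⟨e.hom w.1, trivial⟩, fun w => by
    obtain ⟨U, s, W', hw, hU, hσ⟩ := ψ.2 ⟨e.hom w.1, trivial⟩
    exact ⟨U, s, (Opens.map e.hom).obj W', hw, fun x hx => hU hx, fun w' h => hσ ⟨e.hom w'.1, trivial⟩ h⟩⟩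
  map_zero' := rfl
  map_add' _ _ := rfl

theorem bijective_rc : Function.Bijective (rc f F e) := by
  refine ⟨fun a b h => Subtype.ext (funext fun w => ?_), fun φ => ?_⟩
  · obtain ⟨p, hp⟩ := w
    obtain ⟨x, rfl⟩ : ∃ x, e.hom x = p := ⟨e.inv p, ConcreteCategory.congr_hom e.inv_hom_id p⟩
    exact congrFun (congrArg Subtype.val h) ⟨x, trivial⟩
  · have hx : ∀ p : Nv f n, ∃ a : CohTop.stalk F (nvBase f n p),
        ∀ x : T, e.hom x = p → HEq a (φ.1 ⟨x, trivial⟩) := fun p => by
      obtain ⟨x, rfl⟩ : ∃ x, e.hom x = p := ⟨e.inv p, ConcreteCategory.congr_hom e.inv_hom_id p⟩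
      refine ⟨φ.1 ⟨x, trivial⟩, fun y hy => ?_⟩
      obtain rfl : y = x := (ConcreteCategory.bijective_of_isIso e.hom).1 hy
      rfl
    choose a ha using hx
    have hm : (fun w : nvOver f n (⊤ : Opens S) => a w.1) ∈ Coch f F n ⊤ := fun w => by
      obtain ⟨p, hp⟩ := w
      obtain ⟨x, rfl⟩ : ∃ x, e.hom x = p := ⟨e.inv p, ConcreteCategory.congr_hom e.inv_hom_id p⟩
      obtain ⟨U, s, W', hw, hU, hσ⟩ := φ.2 ⟨x, trivial⟩
      refine ⟨U, s, ⟨e.hom '' W', (TopCat.homeoOfIso e).isOpenMap _ W'.2⟩, ⟨x, hw, rfl⟩, ?_, ?_⟩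
      · rintro _ ⟨y, hy, rfl⟩
        exact hU hy
      · intro w' hw'
        obtain ⟨p', hp'⟩ := w'
        obtain ⟨y, hy, hye⟩ := hw'
        obtain rfl : e.hom y = p' := hye
        exact (eq_of_heq (ha _ y rfl)).trans (hσ ⟨y, trivial⟩ hy)
    exact ⟨⟨_, hm⟩, Subtype.ext (funext fun w => eq_of_heq (ha _ w.1 rfl))⟩

/-- The terms of the complex as sections of inverse images. -/
noncomputable def evalIso :
    cxFun f ⊤ ⋙ HomologicalComplex.eval AddCommGrpCat.{u} (ComplexShape.up ℕ) n ≅
      CohTop.pull (e.hom ≫ nvBase f n) ⋙ secTop T :=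
  NatIso.ofComponents (fun F => ((AddEquiv.ofBijective (rc f F e) (bijective_rc f F e)).trans
      (secEquiv (e.hom ≫ nvBase f n) F ⊤).symm).toAddCommGrpIso)
    (fun {F F'} g => ConcreteCategory.hom_ext _ _ fun φ => by
      apply (secEquiv (e.hom ≫ nvBase f n) F' ⊤).injective
      refine ((secEquiv (e.hom ≫ nvBase f n) F' ⊤).apply_symm_apply _).trans ?_
      refine Subtype.ext (funext fun w => Eq.trans ?_
        (famSec_map (e.hom ≫ nvBase f n) F g ⊤
          ((secEquiv (e.hom ≫ nvBase f n) F ⊤).symm (rc f F e φ)) w).symm)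
      exact congrArg (stalkMap g _) (congrFun (congrArg Subtype.val
        ((secEquiv (e.hom ≫ nvBase f n) F ⊤).apply_symm_apply (rc f F e φ))) w).symm)

/-- The comparison with the wide pullback. -/
noncomputable def wpIso (n : ℕ) : widePullback S (fun _ : Fin (n + 1) => X) (fun _ => f) ≅ nvTop f n where
  hom := TopCat.ofHom ⟨fun w => ⟨(WidePullback.base (fun _ : Fin (n + 1) => f) w,
      fun i => WidePullback.π (fun _ : Fin (n + 1) => f) i w),
      fun i => ConcreteCategory.congr_hom (WidePullback.π_arrow (fun _ : Fin (n + 1) => f) i) w⟩, by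
    refine Continuous.subtype_mk ((WidePullback.base (fun _ : Fin (n + 1) => f)).hom.continuous.prodMk
      (continuous_pi fun i => (WidePullback.π (fun _ : Fin (n + 1) => f) i).hom.continuous)) _⟩
  inv := WidePullback.lift (nvBase f n) (fun i => TopCat.ofHom
      ⟨fun p => p.1.2 i, (continuous_apply i).comp (continuous_snd.comp continuous_subtype_val)⟩)
    (fun i => ConcreteCategory.hom_ext _ _ fun p => p.2 i)
  hom_inv_id := by
    refine WidePullback.hom_ext (arrows := fun _ : Fin (n + 1) => f) _ _ (fun i => ?_) ?_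
    · simp only [Category.assoc, WidePullback.lift_π, Category.id_comp]
      rfl
    · simp only [Category.assoc, WidePullback.lift_base, Category.id_comp]
      rfl
  inv_hom_id := ConcreteCategory.hom_ext _ _ fun p => Subtype.ext (Prod.ext
    (ConcreteCategory.congr_hom (WidePullback.lift_base (fun _ : Fin (n + 1) => f) (nvBase f n) _ _) p)
    (funext fun i => ConcreteCategory.congr_hom
      (WidePullback.lift_π (fun _ : Fin (n + 1) => f) (nvBase f n) _ _ i) p))

lemma wpIso_hom_base (n : ℕ) :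
    (wpIso f n).hom ≫ nvBase f n = WidePullback.base (fun _ : Fin (n + 1) => f) := rfl

include hf in
theorem nonempty_rightDerived_evalCx_iso (q : ℕ) :
    Nonempty (AddCommGrpCat.of (CohTop.H ((CohTop.pull (e.hom ≫ nvBase f n)).obj F) q) ≅
      ((cxFun f ⊤ ⋙ HomologicalComplex.eval AddCommGrpCat.{u} (ComplexShape.up ℕ) n).rightDerived q).obj F) := by
  let t := e.hom ≫ nvBase f n
  let he := (TopCat.homeoOfIso e)
  have hop : IsOpenMap e.hom := he.isOpenMap
  have hin : Function.Injective e.hom := he.injective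
  have ho : IsOpenMap t := (isOpenMap_nvBase f hf n).comp hop
  have hi : ∀ w : T, ∃ W : Opens T, w ∈ W ∧ Set.InjOn t W := fun w => by
    obtain ⟨W, hw, hW⟩ := injOn_nvBase f hf n (e.hom w)
    exact ⟨(Opens.map e.hom).obj W, hw, hW.comp hin.injOn fun x hx => hx⟩
  have : PreservesFiniteLimits (CohTop.pull t) := SheafCoh.preservesFiniteLimits_pull t
  have hadj := TopCat.Sheaf.pullbackPushforwardAdjunction AddCommGrpCat.{u} t
  have : PreservesFiniteColimits (CohTop.pull t) :=
    have : PreservesColimitsOfSize.{0, 0} (CohTop.pull t) :=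
      hadj.leftAdjoint_preservesColimits (F := CohTop.pull t) (G := CohTop.push t)
    PreservesColimitsOfSize.preservesFiniteColimits _
  have : (CohTop.pull t).Additive := Functor.additive_of_preserves_binary_products _
  obtain ⟨i⟩ := RDerLES.nonempty_rightDerived_comp_iso (CohTop.pull t) (secTop T) (fun J hJ k => by
    have := isFlasque_pull J t ho hi
    refine IsZero.of_iso ?_ (GrothSS.rightDerivedSecAtIso (Opens.grothendieckTopology T) ⊤ _ (k + 1))
    have := SheafCoh.flasque_HU_subsingleton ((CohTop.pull t).obj J) k ⊤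
    exact AddCommGrpCat.isZero_of_subsingleton _) q F
  exact ⟨(SheafCoh.HEquivHU _ q (isTerminalTop (α := Opens T))).toAddCommGrpIso ≪≫
    (GrothSS.rightDerivedSecAtIso (Opens.grothendieckTopology T) ⊤ _ q).symm ≪≫ i.symm ≪≫
    (SheafCoh.rightDerivedCongr (evalIso f e).symm q).app F⟩

include hf hs in
/-- The spectral sequence. -/
theorem exists_locHomeo :
    ∃ (E : CohomologicalSpectralSequence AddCommGrpCat.{u} 1)
      (a : SpSeq.Abutment E (fun n : ℤ =>
        if 0 ≤ n then AddCommGrpCat.of (CohTop.H F n.toNat) else AddCommGrpCat.of PUnit.{u + 1})),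
      (∀ n, a.IsFinite n) ∧ SpSeq.IsBounded E ∧
      ∀ p q : ℤ, Nonempty ((E.page 1 le_rfl).X (p, q) ≅
        (if 0 ≤ p ∧ 0 ≤ q then
          AddCommGrpCat.of (CohTop.H ((CohTop.pull
            (WidePullback.base (fun _ : Fin (p.toNat + 1) => f) :
              widePullback S (fun _ : Fin (p.toNat + 1) => X) (fun _ => f) ⟶ S)).obj F) q.toNat)
         else AddCommGrpCat.of PUnit.{u + 1})) :=
  exists_of_functor (cxFun f ⊤) (fun I hI n => exact_cx_injective f hf I hs n) F
    (fun p q => AddCommGrpCat.of (CohTop.H ((CohTop.pull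
      (WidePullback.base (fun _ : Fin (p + 1) => f) :
        widePullback S (fun _ : Fin (p + 1) => X) (fun _ => f) ⟶ S)).obj F) q))
    (fun n => AddCommGrpCat.of (CohTop.H F n)) (AddCommGrpCat.of PUnit.{u + 1})
    (AddCommGrpCat.isZero_of_subsingleton _)
    (fun n => ⟨(SheafCoh.HEquivHU F n (isTerminalTop (α := Opens S))).toAddCommGrpIso ≪≫
      (GrothSS.rightDerivedSecAtIso (Opens.grothendieckTopology S) ⊤ F n).symm ≪≫
      (SheafCoh.rightDerivedCongr (h0SecIso f hf hs) n).app F⟩)
    (fun p q => by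
      rw [← wpIso_hom_base f p]
      exact nonempty_rightDerived_evalCx_iso f F hf (wpIso f p) q)

end GrothLib.DescSS19
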