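import Groth.Agent.Lib.DescSS19.Sec
import Mathlib.AlgebraicTopology.AlternatingFaceMapComplex
import Mathlib.AlgebraicTopology.SimplicialObject.Basic

/-! # Cochains on the nerve of a map with values in germs -/

set_option autoImplicit false
set_option linter.unusedVariables false
set_option backward.isDefEq.respectTransparency false
universe u

open CategoryTheory CategoryTheory.Limits TopologicalSpace Opposite Simplicial

namespace GrothLib.DescSS19

variable {X S : TopCat.{u}} (f : X ⟶ S)

/-- Tuples of points of `X` over the same point of `S`, together with that point. -/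
abbrev Nv (n : ℕ) : Type u := {p : S × (Fin (n + 1) → X) // ∀ i, f (p.2 i) = p.1}

/-- The space of tuples. -/
abbrev nvTop (n : ℕ) : TopCat.{u} := TopCat.of (Nv f n)

/-- The projection. -/
def nvBase (n : ℕ) : nvTop f n ⟶ S :=
  TopCat.ofHom ⟨fun p => p.1.1, continuous_fst.comp continuous_subtype_val⟩

@[simp] lemma nvBase_apply {n : ℕ} (p : Nv f n) : nvBase f n p = p.1.1 := rfl

/-- Reindexing tuples. -/
def reidx {m n : ℕ} (θ : Fin (m + 1) → Fin (n + 1)) (p : Nv f n) : Nv f m :=
  ⟨(p.1.1, p.1.2 ∘ θ), fun i => p.2 (θ i)⟩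

lemma continuous_reidx {m n : ℕ} (θ : Fin (m + 1) → Fin (n + 1)) : Continuous (reidx f θ) :=
  Continuous.subtype_mk (p := fun q : S × (Fin (m + 1) → X) => ∀ i, f (q.2 i) = q.1)
    (f := fun p : Nv f n => (p.1.1, p.1.2 ∘ θ)) ((continuous_fst.comp continuous_subtype_val).prodMk
    (continuous_pi fun i => (continuous_apply (θ i)).comp (continuous_snd.comp continuous_subtype_val))) _

variable (F : CohTop.Ab S)

/-- The tuples over an open set. -/
noncomputable abbrev nvOver (n : ℕ) (V : Opens S) : Opens (nvTop f n) := (Opens.map (nvBase f n)).obj V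

/-- Cochains of degree `n` over an open set. -/
noncomputable abbrev Coch (n : ℕ) (V : Opens S) : AddSubgroup (∀ w : nvOver f n V, CohTop.stalk F (nvBase f n w.1)) :=
  Sec (nvBase f n) F (nvOver f n V)

lemma reidx_mem {m n : ℕ} (θ : Fin (m + 1) → Fin (n + 1)) (V : Opens S)
    {φ : ∀ w : nvOver f m V, CohTop.stalk F (nvBase f m w.1)} (hφ : φ ∈ Coch f F m V) :
    (fun w : nvOver f n V => φ ⟨reidx f θ w.1, w.2⟩) ∈ Coch f F n V := by
  intro w
  obtain ⟨U, s, W', hw, hU, hs⟩ := hφ ⟨reidx f θ w.1, w.2⟩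
  exact ⟨U, s, ⟨reidx f θ ⁻¹' W', W'.2.preimage (continuous_reidx f θ)⟩, hw, fun _ h => hU h,
    fun w' h => hs ⟨reidx f θ w'.1, w'.2⟩ h⟩

/-- Pulling cochains back along a reindexing. -/
noncomputable def cochMap {m n : ℕ} (θ : Fin (m + 1) → Fin (n + 1)) (V : Opens S) :
    Coch f F m V →+ Coch f F n V where
  toFun φ := ⟨fun w => φ.1 ⟨reidx f θ w.1, w.2⟩, reidx_mem f F θ V φ.2⟩
  map_zero' := rfl
  map_add' _ _ := rfl

@[simp] lemma cochMap_apply {m n : ℕ} (θ : Fin (m + 1) → Fin (n + 1)) (V : Opens S)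
    (φ : Coch f F m V) (w : nvOver f n V) : (cochMap f F θ V φ).1 w = φ.1 ⟨reidx f θ w.1, w.2⟩ := rfl

/-- The cosimplicial group of cochains over an open set. -/
noncomputable def cos (V : Opens S) : CosimplicialObject AddCommGrpCat.{u} where
  obj n := AddCommGrpCat.of (Coch f F n.len V)
  map θ := AddCommGrpCat.ofHom (cochMap f F θ.toOrderHom V)
  map_id n := by
    refine ConcreteCategory.hom_ext _ _ fun φ => ?_
    rfl
  map_comp θ θ' := by
    refine ConcreteCategory.hom_ext _ _ fun φ => ?_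
    rfl

/-- The Čech complex over an open set. -/
noncomputable def cx (V : Opens S) : CochainComplex AddCommGrpCat.{u} ℕ :=
  (AlgebraicTopology.alternatingCofaceMapComplex AddCommGrpCat.{u}).obj (cos f F V)

/-- The underlying family of a cochain. -/
noncomputable def val {n : ℕ} {V : Opens S} (φ : (cx f F V).X n) (w : nvOver f n V) :
    CohTop.stalk F (nvBase f n w.1) :=
  Subtype.val (p := fun ψ => ψ ∈ Coch f F n V) φ w

lemma cx_ext {n : ℕ} {V : Opens S} {φ ψ : (cx f F V).X n} (h : ∀ w, val f F φ w = val f F ψ w) : φ = ψ :=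
  Subtype.ext (funext h)

lemma val_d {n : ℕ} {V : Opens S} (φ : (cx f F V).X n) (w : nvOver f (n + 1) V) :
    val f F ((cx f F V).d n (n + 1) φ) w =
      ∑ i : Fin (n + 2), ((-1 : ℤ) ^ (i : ℕ)) •
        (show CohTop.stalk F (nvBase f (n + 1) w.1) from
          val f F φ ⟨reidx f i.succAbove w.1, w.2⟩) := by
  have hd : (cx f F V).d n (n + 1) =
      ∑ i : Fin (n + 2), (-1 : ℤ) ^ (i : ℕ) • (cos f F V).δ i := by
    simp [cx, AlgebraicTopology.alternatingCofaceMapComplex, AlgebraicTopology.AlternatingCofaceMapComplex.obj,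
      AlgebraicTopology.AlternatingCofaceMapComplex.objD]
  rw [hd]
  let ev : Coch f F (n + 1) V →+ CohTop.stalk F (nvBase f (n + 1) w.1) :=
    { toFun := fun ψ => ψ.1 w, map_zero' := rfl, map_add' := fun _ _ => rfl }
  change ev ((∑ i : Fin (n + 2), (-1 : ℤ) ^ (i : ℕ) • (cos f F V).δ i).hom φ) = _
  let hev : (cos f F V).obj (SimplexCategory.mk (n + 1)) ⟶ AddCommGrpCat.of (CohTop.stalk F (nvBase f (n + 1) w.1)) :=
    AddCommGrpCat.ofHom ev
  change ((∑ i : Fin (n + 2), (-1 : ℤ) ^ (i : ℕ) • (cos f F V).δ i) ≫ hev).hom φ = _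
  rw [Preadditive.sum_comp]
  refine (DFunLike.congr_fun (map_sum (AddCommGrpCat.homAddEquiv (M := (cos f F V).obj (SimplexCategory.mk n))
    (N := AddCommGrpCat.of (CohTop.stalk F (nvBase f (n + 1) w.1)))).toAddMonoidHom _ _) φ).trans ?_
  erw [AddMonoidHom.finsetSum_apply]
  refine Finset.sum_congr rfl fun i _ => ?_
  rw [Preadditive.zsmul_comp]
  erw [map_zsmul]
  rfl

variable {F} {F' : CohTop.Ab S} (g : F ⟶ F')

/-- The map of stalks of a morphism of sheaves. -/
noncomputable def stalkMap (x : S) : CohTop.stalk F x →+ CohTop.stalk F' x :=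
  ((TopCat.Presheaf.stalkFunctor AddCommGrpCat.{u} x).map g.hom).hom

lemma stalkMap_germ {U : Opens S} (x : S) (hx : x ∈ U) (s : F.obj.obj (op U)) :
    stalkMap g x (TopCat.Presheaf.germ F.obj U x hx s) =
      TopCat.Presheaf.germ F'.obj U x hx (g.hom.app (op U) s) :=
  TopCat.Presheaf.stalkFunctor_map_germ_apply ..

lemma stalkMap_mem {T : TopCat.{u}} (t : T ⟶ S) (W : Opens T) {φ : ∀ w : W, CohTop.stalk F (t w.1)}
    (hφ : φ ∈ Sec t F W) :
    (fun w : W => stalkMap g (t w.1) (φ w)) ∈ Sec t F' W := by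
  intro w
  obtain ⟨U, s, W', hw, hU, hs⟩ := hφ w
  refine ⟨U, g.hom.app (op U) s, W', hw, hU, fun w' h => ?_⟩
  exact (congrArg (stalkMap g (t w'.1)) (hs w' h)).trans (stalkMap_germ g _ _ _)

/-- Mapping cochains along a morphism of sheaves. -/
noncomputable def cosMap (V : Opens S) : cos f F V ⟶ cos f F' V where
  app n := AddCommGrpCat.ofHom
    { toFun := fun φ => ⟨fun w => stalkMap g (nvBase f n.len w.1) (φ.1 w),
        stalkMap_mem g (nvBase f n.len) _ φ.2⟩
      map_zero' := Subtype.ext (funext fun w => map_zero _)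
      map_add' := fun a b => Subtype.ext (funext fun w => map_add _ _ _) }
  naturality m n θ := rfl

@[simp] lemma val_cosMap {n : ℕ} {V : Opens S} (φ : (cx f F V).X n) (w : nvOver f n V) :
    val f F' (((AlgebraicTopology.alternatingCofaceMapComplex AddCommGrpCat.{u}).map (cosMap f g V)).f n φ) w =
      stalkMap g (nvBase f n w.1) (val f F φ w) := rfl

/-- The Čech complex over an open set, as a functor of the sheaf. -/
noncomputable def cxFun (V : Opens S) : CohTop.Ab S ⥤ CochainComplex AddCommGrpCat.{u} ℕ where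
  obj F := cx f F V
  map g := (AlgebraicTopology.alternatingCofaceMapComplex AddCommGrpCat.{u}).map (cosMap f g V)
  map_id F := HomologicalComplex.hom_ext _ _ fun n => ConcreteCategory.hom_ext _ _ fun φ =>
    cx_ext f F fun w => by
      change stalkMap (𝟙 F) _ (val f F φ w) = val f F φ w
      simp [stalkMap]
  map_comp {F G H} g h := HomologicalComplex.hom_ext _ _ fun n => ConcreteCategory.hom_ext _ _ fun φ =>
    cx_ext f H fun w => by
      change stalkMap (g ≫ h) _ (val f F φ w) = stalkMap h _ (stalkMap g _ (val f F φ w))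
      simp [stalkMap]

end GrothLib.DescSS19
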