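import Groth.Agent.Lib.DescSS19.Res

/-! # The first page spectral sequence of a functorial resolution -/

set_option autoImplicit false
universe v v' u u'
set_option backward.isDefEq.respectTransparency false

open CategoryTheory CategoryTheory.Limits

namespace GrothLib.DescSS19

open GrothLib GrothLib.GrothSS

variable {A : Type u} [Category.{v} A] [Abelian A]

/-- A complex of injective objects exact in positive degrees is an injective resolution. -/
noncomputable def resolutionOfComplex {I : A} (K : CochainComplex A ℕ) (hinj : ∀ n, Injective (K.X n))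
    (hK : ∀ n, K.ExactAt (n + 1)) (e : I ≅ K.homology 0) : InjectiveResolution I where
  cocomplex := K
  injective := hinj
  ι := (CochainComplex.fromSingle₀Equiv K I).symm
    ⟨e.hom ≫ K.isoHomologyπ₀.inv ≫ K.iCycles 0, by simp⟩
  quasiIso := by
    rw [quasiIso_iff]
    intro n
    cases n with
    | zero =>
      set φ := (CochainComplex.fromSingle₀Equiv K I).symm
        ⟨e.hom ≫ K.isoHomologyπ₀.inv ≫ K.iCycles 0, by simp⟩ with hφ
      rw [quasiIsoAt_iff_isIso_homologyMap]
      have h1 : IsIso (HomologicalComplex.cyclesMap φ 0) := by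
        have h2 : (HomologicalComplex.singleObjCyclesSelfIso (ComplexShape.up ℕ) 0 I).inv ≫
            HomologicalComplex.cyclesMap φ 0 = e.hom ≫ K.isoHomologyπ₀.inv := by
          rw [← cancel_mono (K.iCycles 0), Category.assoc, HomologicalComplex.cyclesMap_i, Category.assoc]
          simp only [φ, CochainComplex.fromSingle₀Equiv, Equiv.coe_fn_symm_mk]
          erw [HomologicalComplex.singleObjCyclesSelfIso_inv_iCycles_assoc,
            HomologicalComplex.mkHomFromSingle_f]
          exact Iso.inv_hom_id_assoc _ _
        have : IsIso ((HomologicalComplex.singleObjCyclesSelfIso (ComplexShape.up ℕ) 0 I).inv ≫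
            HomologicalComplex.cyclesMap φ 0) := by
          rw [h2]
          infer_instance
        exact @IsIso.of_isIso_comp_left _ _ _ _ _ _ (HomologicalComplex.cyclesMap φ 0) _ this
      have h3 := HomologicalComplex.homologyπ_naturality φ 0
      have : IsIso (((CochainComplex.single₀ A).obj I).homologyπ 0 ≫ HomologicalComplex.homologyMap φ 0) := by
        rw [h3]
        infer_instance
      exact IsIso.of_isIso_comp_left (((CochainComplex.single₀ A).obj I).homologyπ 0) _
    | succ n =>
      rw [quasiIsoAt_iff_exactAt _ _ (CochainComplex.exactAt_succ_single_obj _ _)]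
      exact hK n

variable {B : Type u'} [Category.{v'} B] [Abelian B] (G : A ⥤ B) [G.Additive] [PreservesFiniteLimits G]
  [EnoughInjectives A] [EnoughInjectives B] [EnoughInjectives (CochainComplex B ℕ)]

/-- The spectral sequence of a functorial resolution which is injective on injective objects. -/
theorem exists_of_resolutionFunctor (K : A ⥤ CochainComplex A ℕ) [K.Additive]
    (hK : ∀ I : A, Injective I → ∀ n, (K.obj I).ExactAt (n + 1))
    (hinj : ∀ I : A, Injective I → ∀ n, Injective ((K.obj I).X n))
    (e : 𝟭 A ≅ K ⋙ h0 A) (F : A) (E₁ : ℕ → ℕ → B) (H : ℕ → B) (Z : B) (hZ : IsZero Z)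
    (hH : ∀ n : ℕ, Nonempty (H n ≅ (G.rightDerived n).obj F))
    (hE : ∀ p q : ℕ, Nonempty (E₁ p q ≅
      ((K ⋙ HomologicalComplex.eval A (ComplexShape.up ℕ) p ⋙ G).rightDerived q).obj F)) :
    ∃ (E : CohomologicalSpectralSequence B 1)
      (a : SpSeq.Abutment E (fun n : ℤ => if 0 ≤ n then H n.toNat else Z)),
      (∀ n, a.IsFinite n) ∧ SpSeq.IsBounded E ∧
      ∀ p q : ℤ, Nonempty ((E.page 1 le_rfl).X (p, q) ≅
        (if 0 ≤ p ∧ 0 ≤ q then E₁ p.toNat q.toNat else Z)) := by
  let T := K ⋙ G.mapHomologicalComplex (ComplexShape.up ℕ)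
  let c : T ⋙ h0 B ≅ G :=
    Functor.associator _ _ _ ≪≫ Functor.isoWhiskerLeft K (h0CompIso G) ≪≫
      (Functor.associator _ _ _).symm ≪≫ Functor.isoWhiskerRight e.symm G ≪≫ G.leftUnitor
  refine exists_of_functor T (fun I hI n => ?_) F E₁ H Z hZ
    (fun n => ⟨(hH n).some ≪≫ (SheafCoh.rightDerivedCongr c n).symm.app F⟩)
    (fun p q => ⟨(hE p q).some ≪≫
      ((SheafCoh.rightDerivedCongr (NatIso.ofComponents (fun _ => Iso.refl _) (fun g => by
        exact (Category.comp_id _).trans (Category.id_comp _).symm) :
        T ⋙ HomologicalComplex.eval B (ComplexShape.up ℕ) p ≅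
          K ⋙ HomologicalComplex.eval A (ComplexShape.up ℕ) p ⋙ G) q).app F).symm⟩)
  let P := resolutionOfComplex (K.obj I) (hinj I hI) (hK I hI) (e.app I)
  exact (G.isZero_rightDerived_obj_injective_succ n I).of_iso (P.isoRightDerivedObj G (n + 1)).symm

end GrothLib.DescSS19
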