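import Groth.Agent.Lib.DescSS19.Germ
import Mathlib.Topology.Sheaves.SheafCondition.UniqueGluing

/-! # Sections of an inverse image as families of germs -/

set_option autoImplicit false
set_option backward.isDefEq.respectTransparency false
universe u

open CategoryTheory CategoryTheory.Limits TopologicalSpace Opposite

namespace GrothLib.DescSS19

variable {T S : TopCat.{u}} (t : T ⟶ S) (F : CohTop.Ab S)

/-- A family of germs is locally given by a section. -/
def IsLocGerm {W : Opens T} (φ : ∀ w : W, CohTop.stalk F (t w.1)) : Prop :=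
  ∀ w : W, ∃ (V : Opens S) (s : F.obj.obj (op V)) (W' : Opens T) (_ : w.1 ∈ W') (hV : W' ≤ (Opens.map t).obj V),
    ∀ (w' : W) (h : w'.1 ∈ W'), φ w' = TopCat.Presheaf.germ F.obj V (t w'.1) (hV h) s

/-- Locally given families form a group. -/
noncomputable def Sec (W : Opens T) : AddSubgroup (∀ w : W, CohTop.stalk F (t w.1)) where
  carrier := {φ | IsLocGerm t F φ}
  zero_mem' w := ⟨⊤, 0, ⊤, trivial, fun _ _ => trivial, fun w' h => by rw [map_zero]; rfl⟩
  add_mem' {a b} ha hb w := by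
    obtain ⟨V, s, W₁, h₁, hV, hs⟩ := ha w
    obtain ⟨V', s', W₂, h₂, hV', hs'⟩ := hb w
    refine ⟨V ⊓ V', F.obj.map (homOfLE inf_le_left).op s + F.obj.map (homOfLE inf_le_right).op s',
      W₁ ⊓ W₂, ⟨h₁, h₂⟩, fun x hx => ⟨hV hx.1, hV' hx.2⟩, fun w' h => ?_⟩
    rw [map_add, TopCat.Presheaf.germ_res_apply, TopCat.Presheaf.germ_res_apply]
    exact congrArg₂ (· + ·) (hs w' h.1) (hs' w' h.2)
  neg_mem' {a} ha w := by
    obtain ⟨V, s, W₁, h₁, hV, hs⟩ := ha w
    refine ⟨V, -s, W₁, h₁, hV, fun w' h => ?_⟩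
    rw [map_neg]
    exact congrArg Neg.neg (hs w' h)

theorem mem_sec {W : Opens T} (φ : ∀ w : W, CohTop.stalk F (t w.1)) :
    φ ∈ Sec t F W ↔ IsLocGerm t F φ := Iff.rfl

/-- The germs of a section of the inverse image. -/
noncomputable def famSec (W : Opens T) :
    ((CohTop.pull t).obj F).obj.obj (op W) →+ ∀ w : W, CohTop.stalk F (t w.1) :=
  AddMonoidHom.pi fun w : W =>
    (AddEquiv.ofBijective (phi t F w.1).hom (bijective_phi t F w.1)).symm.toAddMonoidHom.comp
      (TopCat.Presheaf.germ ((CohTop.pull t).obj F).obj W w.1 w.2).hom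

lemma phi_famSec (W : Opens T) (σ : ((CohTop.pull t).obj F).obj.obj (op W)) (w : W) :
    phi t F w.1 (famSec t F W σ w) = TopCat.Presheaf.germ ((CohTop.pull t).obj F).obj W w.1 w.2 σ :=
  (AddEquiv.ofBijective (phi t F w.1).hom (bijective_phi t F w.1)).apply_symm_apply _

lemma famSec_res {W W' : Opens T} (h : W' ≤ W) (σ : ((CohTop.pull t).obj F).obj.obj (op W)) (w : W') :
    famSec t F W' (((CohTop.pull t).obj F).obj.map (homOfLE h).op σ) w = famSec t F W σ ⟨w.1, h w.2⟩ := by
  apply (bijective_phi t F w.1).1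
  rw [phi_famSec, TopCat.Presheaf.germ_res_apply]
  exact (phi_famSec t F W σ ⟨w.1, h w.2⟩).symm

theorem famSec_injective (W : Opens T) : Function.Injective (famSec t F W) := fun a b h =>
  TopCat.Presheaf.section_ext ((CohTop.pull t).obj F) W a b fun w hw => by
    rw [← phi_famSec t F W a ⟨w, hw⟩, ← phi_famSec t F W b ⟨w, hw⟩, h]

theorem famSec_mem (W : Opens T) (σ : ((CohTop.pull t).obj F).obj.obj (op W)) :
    famSec t F W σ ∈ Sec t F W := by
  intro w
  obtain ⟨V, hV, s, hs⟩ := TopCat.Presheaf.exists_germ_eq F.obj (famSec t F W σ w)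
  have h := phi_famSec t F W σ w
  rw [← hs, phi_germ] at h
  obtain ⟨W', hW', i, j, hij⟩ := TopCat.Presheaf.germ_eq ((CohTop.pull t).obj F).obj w.1
    (show w.1 ∈ (Opens.map t).obj V from hV) w.2 _ _ h
  refine ⟨V, s, W', hW', i.le, fun w' hw' => ?_⟩
  apply (bijective_phi t F w'.1).1
  rw [phi_famSec, phi_germ, ← TopCat.Presheaf.germ_res_apply _ j w'.1 hw', ← hij,
    TopCat.Presheaf.germ_res_apply]

theorem exists_famSec_eq (W : Opens T) (φ : ∀ w : W, CohTop.stalk F (t w.1)) (hφ : φ ∈ Sec t F W) :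
    ∃ σ, famSec t F W σ = φ := by
  choose V s W' hW' hV hs using hφ
  let U : W → Opens T := fun w => W' w ⊓ W
  let sf : ∀ w : W, ((CohTop.pull t).obj F).obj.obj (op (U w)) := fun w =>
    ((CohTop.pull t).obj F).obj.map (homOfLE (inf_le_left.trans (hV w))).op (pullSec t F (V w) (s w))
  have hsf : ∀ (w : W) (x : T) (hx : x ∈ U w),
      TopCat.Presheaf.germ ((CohTop.pull t).obj F).obj (U w) x hx (sf w) =
        phi t F x (φ ⟨x, hx.2⟩) := fun w x hx => by
    rw [hs w ⟨x, hx.2⟩ hx.1, phi_germ, TopCat.Presheaf.germ_res_apply]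
  obtain ⟨σ, hσ, -⟩ := TopCat.Sheaf.existsUnique_gluing' ((CohTop.pull t).obj F) U W
    (fun w => homOfLE inf_le_right) (fun x hx => Opens.mem_iSup.2 ⟨⟨x, hx⟩, hW' _, hx⟩) sf
    (fun w₁ w₂ => TopCat.Presheaf.section_ext ((CohTop.pull t).obj F) _ _ _ fun x hx => by
      exact (TopCat.Presheaf.germ_res_apply ((CohTop.pull t).obj F).obj _ x hx (sf w₁)).trans
        ((hsf w₁ x hx.1).trans ((hsf w₂ x hx.2).symm.trans
          (TopCat.Presheaf.germ_res_apply ((CohTop.pull t).obj F).obj _ x hx (sf w₂)).symm)))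
  refine ⟨σ, funext fun w => (bijective_phi t F w.1).1 ?_⟩
  rw [phi_famSec]
  refine Eq.trans ?_ (hsf w w.1 ⟨hW' w, w.2⟩)
  rw [← hσ w, TopCat.Presheaf.germ_res_apply]

/-- Sections of the inverse image are the locally given families of germs. -/
noncomputable def secEquiv (W : Opens T) :
    ((CohTop.pull t).obj F).obj.obj (op W) ≃+ Sec t F W :=
  AddEquiv.ofBijective ((famSec t F W).codRestrict _ (famSec_mem t F W))
    ⟨fun _ _ h => famSec_injective t F W (congrArg Subtype.val h), fun φ => by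
      obtain ⟨σ, hσ⟩ := exists_famSec_eq t F W φ.1 φ.2
      exact ⟨σ, Subtype.ext hσ⟩⟩

@[simp] lemma secEquiv_coe (W : Opens T) (σ : ((CohTop.pull t).obj F).obj.obj (op W)) :
    (secEquiv t F W σ).1 = famSec t F W σ := rfl

lemma famSec_map {F' : CohTop.Ab S} (g : F ⟶ F') (W : Opens T)
    (σ : ((CohTop.pull t).obj F).obj.obj (op W)) (w : W) :
    famSec t F' W (((CohTop.pull t).map g).hom.app (op W) σ) w =
      (TopCat.Presheaf.stalkFunctor AddCommGrpCat.{u} (t w.1)).map g.hom (famSec t F W σ w) := by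
  apply (bijective_phi t F' w.1).1
  rw [phi_famSec]
  obtain ⟨V, hV, s, hs⟩ := TopCat.Presheaf.exists_germ_eq F.obj (famSec t F W σ w)
  have h := phi_famSec t F W σ w
  rw [← hs, phi_germ] at h
  rw [← hs, TopCat.Presheaf.stalkFunctor_map_germ_apply, phi_germ]
  erw [← TopCat.Presheaf.stalkFunctor_map_germ_apply]
  rw [← h]
  erw [TopCat.Presheaf.stalkFunctor_map_germ_apply]
  congr 1
  exact (congrArg (fun k => k.hom.app (op V) s)
    ((TopCat.Sheaf.pullbackPushforwardAdjunction AddCommGrpCat.{u} t).unit.naturality g)).symm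

end GrothLib.DescSS19
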